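import Groth.Agent.Hopf.K503.Prim
import Mathlib.Data.Nat.Choose.Sum
import Mathlib.Data.Nat.Choose.Dvd
import Mathlib.RingTheory.Bialgebra.Hom

/-!
# Point derivations of a commutative bialgebra and maps to bialgebras of dimension `p`

`IsDer x` : the functional `x` is an `ε`-derivation (a tangent vector at the origin, i.e. a primitive element of the
dual algebra).
-/

set_option autoImplicit false

open TensorProduct WithConv Finset

namespace K503.PrimMap

universe u v w

section Ring

variable {k : Type u} [CommRing k] {A : Type v} [CommRing A] [Bialgebra k A]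

/-- `x` is a point derivation at the counit. -/
def IsDer (x : WithConv (A →ₗ[k] k)) : Prop :=
  ∀ a b : A, x (a * b) = x a * Coalgebra.counit (R := k) b + Coalgebra.counit (R := k) a * x b

theorem mul_apply_one (x y : WithConv (A →ₗ[k] k)) : (x * y) 1 = x 1 * y 1 := by
  rw [LinearMap.convMul_apply, Bialgebra.comul_one, Algebra.TensorProduct.one_def, TensorProduct.map_tmul,
    LinearMap.mul'_apply]

theorem IsDer.apply_one {x : WithConv (A →ₗ[k] k)} (hx : IsDer x) : x 1 = 0 := by
  have := hx 1 1
  rw [mul_one, Bialgebra.counit_one, mul_one, one_mul] at this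
  exact left_eq_add.1 this

theorem IsDer.pow_apply_one {x : WithConv (A →ₗ[k] k)} (hx : IsDer x) (n : ℕ) :
    (x ^ n) 1 = if n = 0 then 1 else 0 := by
  cases n with
  | zero => rw [pow_zero, if_pos rfl, LinearMap.convOne_apply, Bialgebra.counit_one, map_one]
  | succ n => rw [pow_succ, mul_apply_one, hx.apply_one, mul_zero, if_neg (Nat.succ_ne_zero n)]

/-- the value of a product of functionals at a group-like element -/
theorem mul_apply_grp (x y : WithConv (A →ₗ[k] k)) (g : A) (hg : Coalgebra.comul (R := k) g = g ⊗ₜ g) :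
    (x * y) g = x g * y g := by
  rw [LinearMap.convMul_apply, hg, TensorProduct.map_tmul, LinearMap.mul'_apply]

theorem mul_apply_mul (f g : WithConv (A →ₗ[k] k)) {ι : Type*} (s : Finset ι) (f₁ f₂ : ι → WithConv (A →ₗ[k] k))
    (hf : ∀ a b, f (a * b) = ∑ i ∈ s, f₁ i a * f₂ i b) (hg : IsDer g) (a b : A) :
    (f * g) (a * b) = ∑ i ∈ s, (f₁ i a * (f₂ i * g) b + (f₁ i * g) a * f₂ i b) := by
  have key : ∀ z w : A ⊗[k] A, LinearMap.mul' k k (TensorProduct.map f.ofConv g.ofConv (z * w)) =
      ∑ i ∈ s, (LinearMap.mul' k k (TensorProduct.map (f₁ i).ofConv (1 : WithConv (A →ₗ[k] k)).ofConv z) *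
        LinearMap.mul' k k (TensorProduct.map (f₂ i).ofConv g.ofConv w) +
        LinearMap.mul' k k (TensorProduct.map (f₁ i).ofConv g.ofConv z) *
        LinearMap.mul' k k (TensorProduct.map (f₂ i).ofConv (1 : WithConv (A →ₗ[k] k)).ofConv w)) := by
    intro z w
    induction z with
    | zero => simp only [zero_mul, map_zero, add_zero, Finset.sum_const_zero]
    | add z z' hz hz' =>
      rw [add_mul, map_add, map_add, hz, hz', ← Finset.sum_add_distrib]
      refine Finset.sum_congr rfl fun i _ => ?_
      simp only [map_add, add_mul]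
      ring
    | tmul a a' =>
      induction w with
      | zero => simp only [mul_zero, map_zero, add_zero, Finset.sum_const_zero]
      | add w w' hw hw' =>
        rw [mul_add, map_add, map_add, hw, hw', ← Finset.sum_add_distrib]
        refine Finset.sum_congr rfl fun i _ => ?_
        simp only [map_add, mul_add]
        ring
      | tmul b b' =>
        rw [Algebra.TensorProduct.tmul_mul_tmul, TensorProduct.map_tmul, LinearMap.mul'_apply]
        change f (a * b) * g (a' * b') = _
        rw [hf, hg, Finset.sum_mul]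
        refine Finset.sum_congr rfl fun i _ => ?_
        simp only [TensorProduct.map_tmul, LinearMap.mul'_apply]
        change f₁ i a * f₂ i b * _ = f₁ i a * (1 : WithConv (A →ₗ[k] k)) a' * (f₂ i b * g b') +
          f₁ i a * g a' * (f₂ i b * (1 : WithConv (A →ₗ[k] k)) b')
        rw [LinearMap.convOne_apply, LinearMap.convOne_apply, Algebra.algebraMap_self, RingHom.id_apply,
          RingHom.id_apply]
        ring
  rw [LinearMap.convMul_apply, Bialgebra.comul_mul]
  refine (key _ _).trans (Finset.sum_congr rfl fun i _ => ?_)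
  rw [← LinearMap.convMul_apply, ← LinearMap.convMul_apply, ← LinearMap.convMul_apply, ← LinearMap.convMul_apply,
    mul_one, mul_one]

/-- Leibniz' formula for the powers of a point derivation. -/
theorem IsDer.pow_apply_mul {x : WithConv (A →ₗ[k] k)} (hx : IsDer x) (n : ℕ) (a b : A) :
    (x ^ n) (a * b) = ∑ ij ∈ antidiagonal n, (n.choose ij.1 : k) * ((x ^ ij.1) a * (x ^ ij.2) b) := by
  induction n generalizing a b with
  | zero => simp
  | succ n ih =>
    rw [pow_succ]
    have h1 : ∀ a b, (x ^ n) (a * b) = ∑ ij ∈ antidiagonal n,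
        (((n.choose ij.1 : k) • (x ^ ij.1) : WithConv (A →ₗ[k] k)) a) * (x ^ ij.2) b := by
      intro a b
      rw [ih]
      refine Finset.sum_congr rfl fun ij _ => ?_
      change _ = ((n.choose ij.1 : k) * (x ^ ij.1) a) * _
      ring
    rw [mul_apply_mul (x ^ n) x (antidiagonal n) _ _ h1 hx,
      Finset.sum_antidiagonal_choose_succ_mul (fun i j => (x ^ i) a * (x ^ j) b) n, ← Finset.sum_add_distrib]
    refine Finset.sum_congr rfl fun ij hij => ?_
    rw [smul_mul_assoc, ← pow_succ, ← pow_succ]
    have h2 : n.choose ij.2 = n.choose ij.1 := by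
      rw [Finset.mem_antidiagonal] at hij
      rw [← hij, Nat.choose_symm_add]
    rw [h2]
    change (n.choose ij.1 : k) * (x ^ ij.1) a * (x ^ (ij.2 + 1)) b +
      (n.choose ij.1 : k) * (x ^ (ij.1 + 1)) a * (x ^ ij.2) b = _
    ring

theorem IsDer.pow_char {x : WithConv (A →ₗ[k] k)} (hx : IsDer x) (p : ℕ) [hp : Fact p.Prime] [CharP k p] :
    IsDer (x ^ p) := by
  intro a b
  rw [hx.pow_apply_mul]
  have h0 : ((0, p) : ℕ × ℕ) ∈ antidiagonal p := by simp
  have h1 : ((p, 0) : ℕ × ℕ) ∈ antidiagonal p := by simp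
  have hne : ((p, 0) : ℕ × ℕ) ≠ (0, p) := by
    intro h
    exact hp.out.ne_zero (congrArg Prod.fst h)
  rw [Finset.sum_eq_add_of_mem _ _ h1 h0 hne]
  · simp only [Nat.choose_self, Nat.choose_zero_right, Nat.cast_one, one_mul, pow_zero, LinearMap.convOne_apply,
      Algebra.algebraMap_self, RingHom.id_apply]
  · intro ij hij hne
    rw [Finset.mem_antidiagonal] at hij
    have h2 : ij.1 ≠ 0 := by
      intro h
      apply hne.2
      ext
      · exact h
      · simp only; omega
    have h3 : ij.1 ≠ p := by
      intro h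
      apply hne.1
      ext
      · exact h
      · simp only; omega
    have h4 : (p.choose ij.1 : k) = 0 := by
      rw [CharP.cast_eq_zero_iff k p]
      exact hp.out.dvd_choose_self h2 (by omega)
    rw [h4, zero_mul]

theorem IsDer.smul {x : WithConv (A →ₗ[k] k)} (hx : IsDer x) (c : k) : IsDer (c • x) := by
  intro a b
  change c * x (a * b) = c * x a * _ + _ * (c * x b)
  rw [hx]; ring

theorem IsDer.add {x y : WithConv (A →ₗ[k] k)} (hx : IsDer x) (hy : IsDer y) : IsDer (x + y) := by
  intro a b
  change x (a * b) + y (a * b) = (x a + y a) * _ + _ * (x b + y b)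
  rw [hx, hy]; ring

theorem isDer_zero : IsDer (0 : WithConv (A →ₗ[k] k)) := by
  intro a b
  change (0 : k) = 0 * _ + _ * 0
  ring

/-- The values of the powers of a point derivation at the powers of an element. -/
theorem IsDer.pow_apply_pow {x : WithConv (A →ₗ[k] k)} (hx : IsDer x) (a : A) (ha : Coalgebra.counit (R := k) a = 0)
    (hxa : x a = 1) (m : ℕ) : (∀ n < m, (x ^ n) (a ^ m) = 0) ∧ (x ^ m) (a ^ m) = m.factorial := by
  induction m with
  | zero => exact ⟨fun n hn => absurd hn (Nat.not_lt_zero n), by simp⟩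
  | succ m ih =>
    constructor
    · intro n hn
      rw [pow_succ, hx.pow_apply_mul]
      refine Finset.sum_eq_zero fun ij hij => ?_
      rw [Finset.mem_antidiagonal] at hij
      rcases lt_or_eq_of_le (show ij.1 ≤ m by omega) with h | h
      · rw [ih.1 _ h]; ring
      · have h2 : ij.2 = 0 := by omega
        rw [h2, pow_zero, LinearMap.convOne_apply, ha, map_zero]; ring
    · rw [pow_succ, pow_succ, ← pow_succ, hx.pow_apply_mul, Finset.sum_eq_single (m, 1)]
      · rw [ih.2, pow_one, hxa, Nat.choose_succ_self_right, Nat.factorial_succ]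
        push_cast; ring
      · intro ij hij hne
        rw [Finset.mem_antidiagonal] at hij
        rcases lt_trichotomy ij.1 m with h | h | h
        · rw [ih.1 _ h]; ring
        · exfalso; apply hne; ext
          · exact h
          · simp only; omega
        · have h2 : ij.2 = 0 := by omega
          rw [h2, pow_zero, LinearMap.convOne_apply, ha, map_zero]; ring
      · intro h
        exfalso; apply h; simp

end Ring

section Field

variable {k : Type u} [Field k] {A : Type v} [CommRing A] [Bialgebra k A] (p : ℕ) [hp : Fact p.Prime] [CharP k p]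

omit [CharP k p] hp in
theorem exists_elt {x : WithConv (A →ₗ[k] k)} (hx : IsDer x) (hx0 : x ≠ 0) :
    ∃ a : A, Coalgebra.counit (R := k) a = 0 ∧ x a = 1 := by
  have h1 : ∃ a, x a ≠ 0 := by
    by_contra h
    push Not at h
    apply hx0
    apply WithConv.ext; apply LinearMap.ext; intro a
    exact h a
  obtain ⟨a, ha⟩ := h1
  refine ⟨(x a)⁻¹ • (a - algebraMap k A (Coalgebra.counit (R := k) a)), ?_, ?_⟩
  · rw [map_smul, map_sub, Bialgebra.counit_algebraMap, sub_self, smul_zero]
  · rw [Algebra.algebraMap_eq_smul_one, map_smul, map_sub, map_smul, hx.apply_one, smul_zero, sub_zero, smul_eq_mul,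
      inv_mul_cancel₀ ha]

include p hp in
/-- The powers `1, x, …, x^(p-1)` of a nonzero point derivation are linearly independent. -/
theorem IsDer.linearIndependent {x : WithConv (A →ₗ[k] k)} (hx : IsDer x) (hx0 : x ≠ 0) :
    LinearIndependent k (fun i : Fin p => x ^ (i : ℕ)) := by
  obtain ⟨a, ha, hxa⟩ := exists_elt hx hx0
  rw [Fintype.linearIndependent_iff]
  intro g hg
  by_contra hne
  push Not at hne
  classical
  obtain ⟨j, hj, hmax⟩ := Finset.exists_max_image (Finset.univ.filter fun i : Fin p => g i ≠ 0) (fun i => (i : ℕ)) (by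
    obtain ⟨i, hi⟩ := hne
    exact ⟨i, by simp [hi]⟩)
  rw [Finset.mem_filter] at hj
  have h1 : (∑ i, g i • x ^ (i : ℕ)) (a ^ (j : ℕ)) = 0 := by rw [hg]; rfl
  have h2 : (∑ i, g i • x ^ (i : ℕ)) (a ^ (j : ℕ)) = ∑ i : Fin p, g i * (x ^ (i : ℕ)) (a ^ (j : ℕ)) := by
    have h3 := map_sum ((LinearMap.applyₗ (a ^ (j : ℕ)) ∘ₗ (WithConv.linearEquiv k (A →ₗ[k] k)).toLinearMap :
      WithConv (A →ₗ[k] k) →ₗ[k] k)) (fun i : Fin p => g i • x ^ (i : ℕ)) Finset.univ
    exact h3
  rw [h2, Finset.sum_eq_single j] at h1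
  · rw [(hx.pow_apply_pow a ha hxa j).2, mul_eq_zero] at h1
    rcases h1 with h1 | h1
    · exact hj.2 h1
    · rw [CharP.cast_eq_zero_iff k p, hp.out.dvd_factorial] at h1
      exact absurd h1 (not_le.2 j.2)
  · intro i _ hij
    rcases lt_or_gt_of_ne (fun h => hij (Fin.ext h) : (i : ℕ) ≠ j) with h | h
    · rw [(hx.pow_apply_pow a ha hxa j).1 _ h, mul_zero]
    · have : g i = 0 := by
        by_contra h3
        exact absurd (hmax i (by simp [h3])) (not_le.2 h)
      rw [this, zero_mul]
  · intro h; exact absurd (Finset.mem_univ j) h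

end Field

section Map

variable {k : Type u} [Field k] {A : Type v} [CommRing A] [Bialgebra k A] {B : Type w} [CommRing B] [Bialgebra k B]
  (p : ℕ) [hp : Fact p.Prime] [CharP k p]

omit [CharP k p] hp in
theorem pow_eq_of_ge {D : Type*} [Ring D] [Algebra k D] {t : D} {c : k} (h : t ^ p = c • t) (m : ℕ) (hm : p ≤ m) :
    t ^ m = c • t ^ (m - p + 1) := by
  obtain ⟨j, rfl⟩ := Nat.exists_eq_add_of_le hm
  rw [pow_add, h, smul_mul_assoc, Nat.add_sub_cancel_left, pow_succ']

include p hp in
/-- The powers of a nonzero point derivation of a bialgebra of dimension `p` form a basis of the dual. -/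
theorem IsDer.span_eq_top [Module.Finite k B] (hB : Module.finrank k B = p) {t : WithConv (B →ₗ[k] k)} (ht : IsDer t)
    (ht0 : t ≠ 0) : Submodule.span k (Set.range (fun i : Fin p => t ^ (i : ℕ))) = ⊤ := by
  have h1 := ht.linearIndependent p ht0
  have : Module.Finite k (WithConv (B →ₗ[k] k)) := Module.Finite.equiv (WithConv.linearEquiv k (B →ₗ[k] k)).symm
  apply h1.span_eq_top_of_card_eq_finrank'
  rw [Fintype.card_fin, (WithConv.linearEquiv k (B →ₗ[k] k)).finrank_eq,
      show Module.finrank k (B →ₗ[k] k) = Module.finrank k B from Subspace.dual_finrank_eq, hB]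

include p hp in
theorem IsDer.ext_of_pow [Module.Finite k B] (hB : Module.finrank k B = p) {t : WithConv (B →ₗ[k] k)} (ht : IsDer t)
    (ht0 : t ≠ 0) {b b' : B} (h : ∀ i : Fin p, (t ^ (i : ℕ)) b = (t ^ (i : ℕ)) b') : b = b' := by
  rw [← sub_eq_zero]
  refine (Module.forall_dual_apply_eq_zero_iff k (b - b')).1 fun φ => ?_
  have h1 : (toConv φ : WithConv (B →ₗ[k] k)) ∈ Submodule.span k (Set.range (fun i : Fin p => t ^ (i : ℕ))) := by
    rw [ht.span_eq_top p hB ht0]; trivial
  have h2 : ∀ ψ ∈ Submodule.span k (Set.range (fun i : Fin p => t ^ (i : ℕ))), ψ (b - b') = 0 := by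
    intro ψ hψ
    induction hψ using Submodule.span_induction with
    | mem ψ h' =>
      obtain ⟨i, rfl⟩ := h'
      change (t ^ (i : ℕ)) (b - b') = 0
      rw [map_sub, h i, sub_self]
    | zero => rfl
    | add x y _ _ hx hy => change x (b - b') + y (b - b') = 0; rw [hx, hy, add_zero]
    | smul c x _ hx => change c * x (b - b') = 0; rw [hx, mul_zero]
  exact h2 _ h1

include p hp in
/-- A point derivation `x` with `x^p = c x` extends to a map to a `p`-dimensional bialgebra with a point derivation
`t ≠ 0`, `t^p = c t`. -/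
theorem exists_bialgHom [Module.Finite k B] (hB : Module.finrank k B = p)
    {x : WithConv (A →ₗ[k] k)} (hx : IsDer x) {t : WithConv (B →ₗ[k] k)} (ht : IsDer t) (ht0 : t ≠ 0) (c : k)
    (hxc : x ^ p = c • x) (htc : t ^ p = c • t) :
    ∃ f : A →ₐc[k] B, (∀ m a, (t ^ m) (f a) = (x ^ m) a) ∧ (x ≠ 0 → Function.Surjective f) := by
  -- the linear map
  let evB : B →ₗ[k] (Fin p → k) := LinearMap.pi fun i => (t ^ (i : ℕ)).ofConv
  let evA : A →ₗ[k] (Fin p → k) := LinearMap.pi fun i => (x ^ (i : ℕ)).ofConv
  have hevB : Function.Injective evB := fun b b' h => ht.ext_of_pow p hB ht0 fun i => congrFun h i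
  let e : B ≃ₗ[k] (Fin p → k) := LinearEquiv.ofInjectiveOfFinrankEq evB hevB (by rw [hB]; simp)
  let f₀ : A →ₗ[k] B := e.symm.toLinearMap ∘ₗ evA
  have hf₀ : ∀ (i : Fin p) a, (t ^ (i : ℕ)) (f₀ a) = (x ^ (i : ℕ)) a := by
    intro i a
    have : e (f₀ a) = evA a := e.apply_symm_apply _
    exact congrFun this i
  have key : ∀ m a, (t ^ m) (f₀ a) = (x ^ m) a := by
    intro m
    induction m using Nat.strong_induction_on with
    | _ m ih =>
      intro a
      rcases lt_or_ge m p with h | h
      · exact hf₀ ⟨m, h⟩ a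
      · rw [pow_eq_of_ge p htc m h, pow_eq_of_ge p hxc m h]
        change c * (t ^ (m - p + 1)) (f₀ a) = c * (x ^ (m - p + 1)) a
        rw [ih (m - p + 1) (by have := hp.out.two_le; omega)]
  have hspan := ht.span_eq_top p hB ht0
  -- the dual map
  let F : WithConv (B →ₗ[k] k) →ₗ[k] WithConv (A →ₗ[k] k) :=
    (WithConv.linearEquiv k (A →ₗ[k] k)).symm.toLinearMap ∘ₗ LinearMap.lcomp k k f₀ ∘ₗ
      (WithConv.linearEquiv k (B →ₗ[k] k)).toLinearMap
  have hF : ∀ φ a, F φ a = φ (f₀ a) := fun φ a => rfl
  have hFt : ∀ m, F (t ^ m) = x ^ m := by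
    intro m
    apply WithConv.ext; apply LinearMap.ext; intro a
    exact key m a
  have hFmul : ∀ φ ψ, F (φ * ψ) = F φ * F ψ := by
    intro φ ψ
    have h1 : φ ∈ Submodule.span k (Set.range (fun i : Fin p => t ^ (i : ℕ))) := by rw [hspan]; trivial
    have h2 : ψ ∈ Submodule.span k (Set.range (fun i : Fin p => t ^ (i : ℕ))) := by rw [hspan]; trivial
    induction h1 using Submodule.span_induction with
    | mem φ h' =>
      obtain ⟨i, rfl⟩ := h'
      induction h2 using Submodule.span_induction with
      | mem ψ h' =>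
        obtain ⟨j, rfl⟩ := h'
        simp only [← pow_add, hFt]
      | zero => rw [mul_zero, map_zero, mul_zero]
      | add y z _ _ hy hz => rw [mul_add, map_add, hy, hz, map_add, mul_add]
      | smul c y _ hy => rw [mul_smul_comm, map_smul, hy, map_smul, mul_smul_comm]
    | zero => rw [zero_mul, map_zero, zero_mul]
    | add y z _ _ hy hz => rw [add_mul, map_add, hy, hz, map_add, add_mul]
    | smul c y _ hy => rw [smul_mul_assoc, map_smul, hy, map_smul, smul_mul_assoc]
  -- the algebra map
  have hone : f₀ 1 = 1 := by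
    refine ht.ext_of_pow p hB ht0 fun i => ?_
    rw [key, hx.pow_apply_one, ht.pow_apply_one]
  have hmul : ∀ a b, f₀ (a * b) = f₀ a * f₀ b := by
    intro a b
    refine ht.ext_of_pow p hB ht0 fun i => ?_
    rw [key, hx.pow_apply_mul, ht.pow_apply_mul]
    refine Finset.sum_congr rfl fun ij _ => ?_
    rw [key, key]
  let f₁ : A →ₐ[k] B := AlgHom.ofLinearMap f₀ hone hmul
  have hcounit : ∀ a, Coalgebra.counit (R := k) (f₀ a) = Coalgebra.counit (R := k) a := by
    intro a
    have := key 0 a
    rw [pow_zero, pow_zero, LinearMap.convOne_apply, LinearMap.convOne_apply] at this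
    exact this
  have hcomul : ∀ a, TensorProduct.map f₀ f₀ (Coalgebra.comul (R := k) a) = Coalgebra.comul (R := k) (f₀ a) := by
    intro a
    rw [← sub_eq_zero]
    apply Prim.eq_zero_of_forall_map
    intro φ ψ
    rw [map_sub, map_sub, sub_eq_zero, ← LinearMap.comp_apply (TensorProduct.map φ ψ), ← TensorProduct.map_comp]
    have h1 := congrArg (fun z : WithConv (A →ₗ[k] k) => z a) (hFmul (toConv φ) (toConv ψ))
    simp only [hF] at h1
    rw [LinearMap.convMul_apply, LinearMap.convMul_apply] at h1
    exact h1.symm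
  let f : A →ₐc[k] B := BialgHom.ofAlgHom f₁ (AlgHom.ext hcounit) (AlgHom.ext hcomul)
  refine ⟨f, key, fun hx0 => ?_⟩
  -- surjectivity by duality
  have hFinj : Function.Injective F := by
    have h1 := hx.linearIndependent p hx0
    let bas := Module.Basis.mk (ht.linearIndependent p ht0) hspan.ge
    rw [injective_iff_map_eq_zero]
    intro v hv
    rw [← bas.sum_repr v, map_sum] at hv
    have h2 : ∀ i, bas.repr v i = 0 := by
      refine Fintype.linearIndependent_iff.1 h1 _ ?_
      rw [← hv]
      refine Finset.sum_congr rfl fun i _ => ?_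
      rw [map_smul, Module.Basis.mk_apply, hFt]
    apply bas.repr.injective
    ext i
    rw [h2, map_zero, Finsupp.zero_apply]
  have h3 : LinearMap.range f₀ = ⊤ := by
    by_contra hne
    obtain ⟨φ, hφ0, hφ⟩ := Submodule.exists_le_ker_of_lt_top _ (lt_top_iff_ne_top.2 hne)
    apply hφ0
    have h4 : F (toConv φ) = 0 := by
      apply WithConv.ext; apply LinearMap.ext; intro a
      exact hφ (LinearMap.mem_range_self f₀ a)
    have h5 : (toConv φ : WithConv (B →ₗ[k] k)) = 0 := hFinj (by rw [h4, map_zero])
    exact congrArg WithConv.ofConv h5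
  exact LinearMap.range_eq_top.1 h3

end Map

end K503.PrimMap
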