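import Groth.Agent.Hopf.K503.ActGrpd
import Groth.Prelude.Def_GLin
import Mathlib.RingTheory.Adjoin.Tower
import Mathlib.RingTheory.FiniteType

/-!
# Finite group scheme actions on affine schemes: integrality over the invariants and finite generation
-/

set_option autoImplicit false
universe u v w

open TensorProduct Groth.Agent.Grpsch.AffGrpd K503.ActGrpd

namespace K503.ActFinite

section

variable {k : Type u} [Field k] {A : Type w} [CommRing A] [HopfAlgebra k A] [Module.Finite k A]
  {R : Type v} [CommRing R] [Algebra k R] (c : Coaction k A R)

theorem isIntegral : Algebra.IsIntegral c.inv R := by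
  have h := c.isQuot.isIntegral (srcDB (Module.finBasis k A))
  refine ⟨fun r => ?_⟩
  obtain ⟨p, hp, hpr⟩ := h (ULift.up r)
  refine ⟨p.map (ULift.ringEquiv : ULift.{w} c.inv ≃+* c.inv).toRingHom, hp.map _, ?_⟩
  have h1 := congrArg (ULift.ringEquiv : ULift.{w} R ≃+* R) hpr
  rw [map_zero] at h1
  rw [← h1, Polynomial.eval₂_map]
  change _ = (ULift.ringEquiv : ULift.{w} R ≃+* R).toRingHom _
  rw [Polynomial.hom_eval₂]
  rfl

theorem finite_of_finiteType [Algebra.FiniteType k R] : Module.Finite c.inv R := by
  have := isIntegral c
  have : Algebra.FiniteType c.inv R := Algebra.FiniteType.of_restrictScalars_finiteType k c.inv R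
  exact Algebra.IsIntegral.finite

theorem finiteType_inv [Algebra.FiniteType k R] : Algebra.FiniteType k c.inv := by
  have := finite_of_finiteType c
  refine ⟨fg_of_fg_of_fg k c.inv R Algebra.FiniteType.out Module.Finite.fg_top ?_⟩
  exact Subtype.val_injective

end

section Comod

variable (k : Type u) [Field k] (A : Type w) [CommRing A] [HopfAlgebra k A]
  (R : Type v) [CommRing R] [Algebra k R] [HopfRep.Comod k A R] [GLin.IsCoactAlg k A R]

/-- The coaction attached to a comodule structure by an algebra map. -/
noncomputable def ofComod : Coaction k A R where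
  ρ := GLin.coactAlgHom k A R
  coassoc r := LinearMap.congr_fun (HopfRep.Comod.coassoc (k := k) (A := A) (V := R)) r
  counit r := LinearMap.congr_fun (HopfRep.Comod.counit_comp (k := k) (A := A) (V := R)) r

theorem inv_ofComod : (ofComod k A R).inv = GLin.invariants k A R := rfl

end Comod

end K503.ActFinite
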