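import Groth.Agent.Grpsch.QuotGlobal
import Mathlib.RingTheory.HopfAlgebra.Basic
import Mathlib.RingTheory.HopfAlgebra.Convolution
import Mathlib.RingTheory.Bialgebra.Basic
import Mathlib.RingTheory.TensorProduct.Maps
import Mathlib.LinearAlgebra.Dimension.Free

/-!
# The ring-level groupoid of an action of an affine group scheme on an affine scheme

For a coaction `ρ : R → R ⊗ A` of a commutative Hopf algebra `A` on a commutative algebra `R` we build the
ring-level groupoid (`RGrpd`) of the action; source `r ↦ r ⊗ 1`, target `ρ`.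
-/

set_option autoImplicit false
universe u v w

open TensorProduct Groth.Agent.Grpsch.AffGrpd

namespace K503.ActGrpd

section Lift

variable {k : Type u} [CommRing k] {R : Type v} {A : Type w} [CommRing R] [CommRing A] [Algebra k R] [Algebra k A]

theorem exists_lift2 {T : Type*} [CommRing T] (x : R →+* T) (g : A →+* T)
    (h : x.comp (algebraMap k R) = g.comp (algebraMap k A)) :
    ∃ χ : R ⊗[k] A →+* T, ∀ r a, χ (r ⊗ₜ a) = x r * g a := by
  let : Algebra k T := (x.comp (algebraMap k R)).toAlgebra
  let φ' : R →ₐ[k] T := { x with commutes' := fun _ => rfl }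
  let ψ' : A →ₐ[k] T := { g with commutes' := fun a => (congrArg (fun χ : k →+* T => χ a) h).symm }
  refine ⟨(Algebra.TensorProduct.productMap φ' ψ' : R ⊗[k] A →+* T), fun r a => ?_⟩
  change Algebra.TensorProduct.productMap φ' ψ' (r ⊗ₜ[k] a) = x r * g a
  rw [Algebra.TensorProduct.productMap_apply_tmul]
  rfl

/-- The ring homomorphism `R ⊗ A → T` attached to two ring homomorphisms agreeing on `k`. -/
noncomputable def lift2 {T : Type*} [CommRing T] (x : R →+* T) (g : A →+* T)
    (h : x.comp (algebraMap k R) = g.comp (algebraMap k A)) : R ⊗[k] A →+* T :=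
  (exists_lift2 x g h).choose

theorem lift2_tmul {T : Type*} [CommRing T] (x : R →+* T) (g : A →+* T)
    (h : x.comp (algebraMap k R) = g.comp (algebraMap k A)) (r : R) (a : A) :
    lift2 x g h (r ⊗ₜ a) = x r * g a :=
  (exists_lift2 x g h).choose_spec r a

theorem ring_ext {T : Type*} [CommRing T] {φ ψ : R ⊗[k] A →+* T}
    (h1 : ∀ r, φ (r ⊗ₜ 1) = ψ (r ⊗ₜ 1)) (h2 : ∀ a, φ (1 ⊗ₜ a) = ψ (1 ⊗ₜ a)) : φ = ψ := by
  refine RingHom.ext fun z => ?_
  induction z with
  | zero => rw [map_zero, map_zero]
  | add x y hx hy => rw [map_add, map_add, hx, hy]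
  | tmul r a =>
    have : (r ⊗ₜ[k] a : R ⊗[k] A) = (r ⊗ₜ 1) * (1 ⊗ₜ a) := by
      rw [Algebra.TensorProduct.tmul_mul_tmul, mul_one, one_mul]
    rw [this, map_mul, map_mul, h1, h2]

/-- left component -/
noncomputable def pL {T : Type*} [CommRing T] (α : R ⊗[k] A →+* T) : R →+* T :=
  α.comp (Algebra.TensorProduct.includeLeft : R →ₐ[k] R ⊗[k] A).toRingHom

/-- right component -/
noncomputable def pR {T : Type*} [CommRing T] (α : R ⊗[k] A →+* T) : A →+* T :=
  α.comp (Algebra.TensorProduct.includeRight : A →ₐ[k] R ⊗[k] A).toRingHom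

theorem pL_apply {T : Type*} [CommRing T] (α : R ⊗[k] A →+* T) (r : R) : pL α r = α (r ⊗ₜ 1) := rfl

theorem pR_apply {T : Type*} [CommRing T] (α : R ⊗[k] A →+* T) (a : A) : pR α a = α (1 ⊗ₜ a) := rfl

theorem pLR {T : Type*} [CommRing T] (α : R ⊗[k] A →+* T) :
    (pL α).comp (algebraMap k R) = (pR α).comp (algebraMap k A) := by
  ext c
  rw [RingHom.comp_apply, RingHom.comp_apply, pL_apply, pR_apply]
  congr 1
  rw [Algebra.algebraMap_eq_smul_one, Algebra.algebraMap_eq_smul_one, TensorProduct.smul_tmul]

theorem eta {T : Type*} [CommRing T] (α : R ⊗[k] A →+* T) : lift2 (pL α) (pR α) (pLR α) = α := by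
  apply ring_ext
  · intro r; rw [lift2_tmul, map_one, mul_one, pL_apply]
  · intro r; rw [lift2_tmul, map_one, one_mul, pR_apply]

theorem pL_lift2 {T : Type*} [CommRing T] (x : R →+* T) (g : A →+* T)
    (h : x.comp (algebraMap k R) = g.comp (algebraMap k A)) : pL (lift2 x g h) = x := by
  ext r; rw [pL_apply, lift2_tmul, map_one, mul_one]

theorem pR_lift2 {T : Type*} [CommRing T] (x : R →+* T) (g : A →+* T)
    (h : x.comp (algebraMap k R) = g.comp (algebraMap k A)) : pR (lift2 x g h) = g := by
  ext r; rw [pR_apply, lift2_tmul, map_one, one_mul]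

theorem comp_lift2 {T T' : Type*} [CommRing T] [CommRing T'] (f : T →+* T') (x : R →+* T) (g : A →+* T)
    (h : x.comp (algebraMap k R) = g.comp (algebraMap k A)) :
    f.comp (lift2 x g h) = lift2 (f.comp x) (f.comp g) (by rw [RingHom.comp_assoc, h, RingHom.comp_assoc]) := by
  apply ring_ext
  · intro r; rw [RingHom.comp_apply, lift2_tmul, lift2_tmul, map_mul]; rfl
  · intro r; rw [RingHom.comp_apply, lift2_tmul, lift2_tmul, map_mul]; rfl

theorem pair_ext {T : Type*} [CommRing T] {α β : R ⊗[k] A →+* T} (h1 : pL α = pL β) (h2 : pR α = pR β) : α = β :=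
  ring_ext (fun r => RingHom.congr_fun h1 r) (fun a => RingHom.congr_fun h2 a)

end Lift

section Act

variable (k : Type u) [CommRing k] (A : Type w) [CommRing A] [HopfAlgebra k A]

/-- A right coaction of `A` on the algebra `R` by an algebra homomorphism. -/
structure Coaction (R : Type v) [CommRing R] [Algebra k R] where
  ρ : R →ₐ[k] R ⊗[k] A
  coassoc : ∀ r, Algebra.TensorProduct.assoc k k k R A A (Algebra.TensorProduct.map ρ (AlgHom.id k A) (ρ r)) =
    Algebra.TensorProduct.map (AlgHom.id k R) (Bialgebra.comulAlgHom k A) (ρ r)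
  counit : ∀ r, Algebra.TensorProduct.map (AlgHom.id k R) (Bialgebra.counitAlgHom k A) (ρ r) = r ⊗ₜ[k] (1 : k)

/-- The regular coaction. -/
noncomputable def regular : Coaction k A A where
  ρ := Bialgebra.comulAlgHom k A
  coassoc a := Coalgebra.coassoc_apply a
  counit a := Coalgebra.lTensor_counit_comul a

variable {k A} {R : Type v} [CommRing R] [Algebra k R] (c : Coaction k A R)
variable {T : Type*} [CommRing T]

/-- The action of `A`-points on `R`-points. -/
noncomputable def Coaction.act (x : R →+* T) (g : A →+* T)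
    (h : x.comp (algebraMap k R) = g.comp (algebraMap k A)) : R →+* T :=
  (lift2 x g h).comp c.ρ.toRingHom

theorem Coaction.act_algebraMap (x : R →+* T) (g : A →+* T)
    (h : x.comp (algebraMap k R) = g.comp (algebraMap k A)) :
    (c.act x g h).comp (algebraMap k R) = x.comp (algebraMap k R) := by
  ext a
  change lift2 x g h (c.ρ (algebraMap k R a)) = x (algebraMap k R a)
  rw [AlgHom.commutes, Algebra.TensorProduct.algebraMap_apply, lift2_tmul, map_one, mul_one]

/-- The trivial point over a given `k`-algebra structure. -/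
noncomputable def triv (k : Type u) [CommRing k] (A : Type w) [CommRing A] [HopfAlgebra k A] (κ : k →+* T) : A →+* T :=
  κ.comp (Bialgebra.counitAlgHom k A).toRingHom

theorem triv_algebraMap (κ : k →+* T) : (triv k A κ).comp (algebraMap k A) = κ := by
  ext a
  change κ (Bialgebra.counitAlgHom k A (algebraMap k A a)) = κ a
  rw [AlgHom.commutes]; rfl

/-- Multiplication of points. -/
noncomputable def cmul (g g' : A →+* T) (h : g.comp (algebraMap k A) = g'.comp (algebraMap k A)) : A →+* T :=
  (regular k A).act g g' h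

theorem cmul_algebraMap (g g' : A →+* T) (h : g.comp (algebraMap k A) = g'.comp (algebraMap k A)) :
    (cmul g g' h).comp (algebraMap k A) = g.comp (algebraMap k A) :=
  (regular k A).act_algebraMap g g' h

theorem Coaction.act_act (x : R →+* T) (g g' : A →+* T)
    (h : x.comp (algebraMap k R) = g.comp (algebraMap k A))
    (h' : g.comp (algebraMap k A) = g'.comp (algebraMap k A)) :
    c.act (c.act x g h) g' (by rw [c.act_algebraMap, h, h']) =
      c.act x (cmul g g' h') (by rw [cmul_algebraMap, h]) := by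
  ext r
  change lift2 (c.act x g h) g' _ (c.ρ r) = lift2 x (cmul g g' h') _ (c.ρ r)
  have h1 : ∀ z : R ⊗[k] A, lift2 (c.act x g h) g' (by rw [c.act_algebraMap, h, h']) z =
      lift2 x (lift2 g g' h') (k := k) (by
        rw [h]; ext a
        rw [RingHom.comp_apply, RingHom.comp_apply, Algebra.TensorProduct.algebraMap_apply, lift2_tmul, map_one,
          mul_one])
      (Algebra.TensorProduct.assoc k k k R A A (Algebra.TensorProduct.map c.ρ (AlgHom.id k A) z)) := by
    intro z
    induction z with
    | zero => simp only [map_zero]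
    | add a b ha hb => simp only [map_add, ha, hb]
    | tmul r a =>
      rw [lift2_tmul, Algebra.TensorProduct.map_tmul, AlgHom.id_apply]
      change lift2 x g h (c.ρ r) * g' a = _
      induction c.ρ r with
      | zero => simp only [map_zero, zero_mul, TensorProduct.zero_tmul]
      | add s t hs ht => simp only [map_add, add_mul, TensorProduct.add_tmul, hs, ht]
      | tmul s t =>
        rw [lift2_tmul, Algebra.TensorProduct.assoc_tmul, lift2_tmul, lift2_tmul, mul_assoc]
  have h2 : ∀ z : R ⊗[k] A, lift2 x (cmul g g' h') (by rw [cmul_algebraMap, h]) z =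
      lift2 x (lift2 g g' h') (k := k) (by
        rw [h]; ext a
        rw [RingHom.comp_apply, RingHom.comp_apply, Algebra.TensorProduct.algebraMap_apply, lift2_tmul, map_one,
          mul_one])
      (Algebra.TensorProduct.map (AlgHom.id k R) (Bialgebra.comulAlgHom k A) z) := by
    intro z
    induction z with
    | zero => simp only [map_zero]
    | add a b ha hb => simp only [map_add, ha, hb]
    | tmul r a =>
      rw [lift2_tmul, Algebra.TensorProduct.map_tmul, AlgHom.id_apply, lift2_tmul]
      rfl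
  rw [h1, h2, c.coassoc]

theorem Coaction.act_triv (x : R →+* T) :
    c.act x (triv k A (x.comp (algebraMap k R))) (triv_algebraMap _).symm = x := by
  ext r
  change lift2 x _ _ (c.ρ r) = x r
  have h1 : ∀ z : R ⊗[k] A, lift2 x (triv k A (x.comp (algebraMap k R))) (triv_algebraMap _).symm z =
      x (Algebra.TensorProduct.rid k k R (Algebra.TensorProduct.map (AlgHom.id k R) (Bialgebra.counitAlgHom k A) z)) := by
    intro z
    induction z with
    | zero => simp only [map_zero]
    | add a b ha hb => simp only [map_add, ha, hb]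
    | tmul r a =>
      rw [lift2_tmul, Algebra.TensorProduct.map_tmul, AlgHom.id_apply, Algebra.TensorProduct.rid_tmul, Algebra.smul_def,
        map_mul, mul_comm]
      rfl
  rw [h1, c.counit, Algebra.TensorProduct.rid_tmul, one_smul]

theorem cmul_assoc (g g' g'' : A →+* T) (h : g.comp (algebraMap k A) = g'.comp (algebraMap k A))
    (h' : g'.comp (algebraMap k A) = g''.comp (algebraMap k A)) :
    cmul (cmul g g' h) g'' (by rw [cmul_algebraMap, h, h']) = cmul g (cmul g' g'' h') (by rw [cmul_algebraMap, h]) :=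
  (regular k A).act_act g g' g'' h h'

theorem cmul_triv (g : A →+* T) : cmul g (triv k A (g.comp (algebraMap k A))) (triv_algebraMap _).symm = g :=
  (regular k A).act_triv g

theorem triv_cmul (g : A →+* T) : cmul (triv k A (g.comp (algebraMap k A))) g (triv_algebraMap _) = g := by
  ext a
  change lift2 _ g _ (Coalgebra.comul (R := k) a) = g a
  have h1 : ∀ z : A ⊗[k] A, lift2 (triv k A (g.comp (algebraMap k A))) g (triv_algebraMap _) z =
      g (TensorProduct.lid k A (LinearMap.rTensor A (Coalgebra.counit (R := k) (A := A)) z)) := by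
    intro z
    induction z with
    | zero => simp only [map_zero]
    | add a b ha hb => simp only [map_add, ha, hb]
    | tmul r a =>
      rw [lift2_tmul, LinearMap.rTensor_tmul, TensorProduct.lid_tmul, Algebra.smul_def, map_mul]
      rfl
  rw [h1, Coalgebra.rTensor_counit_comul, TensorProduct.lid_tmul, one_smul]

/-- The inverse of a point. -/
noncomputable def cinv (k : Type u) [CommRing k] {A : Type w} [CommRing A] [HopfAlgebra k A] (g : A →+* T) : A →+* T :=
  g.comp (HopfAlgebra.antipodeAlgHom k A).toRingHom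

theorem cinv_algebraMap (g : A →+* T) : (cinv k g).comp (algebraMap k A) = g.comp (algebraMap k A) := by
  ext a
  change g (HopfAlgebra.antipodeAlgHom k A (algebraMap k A a)) = g (algebraMap k A a)
  rw [AlgHom.commutes]

theorem cmul_cinv (g : A →+* T) : cmul g (cinv k g) (cinv_algebraMap g).symm = triv k A (g.comp (algebraMap k A)) := by
  ext a
  change lift2 g _ _ (Coalgebra.comul (R := k) a) = g (algebraMap k A (Coalgebra.counit (R := k) a))
  have h1 : ∀ z : A ⊗[k] A, lift2 g (cinv k g) (cinv_algebraMap g).symm z =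
      g (LinearMap.mul' k A (LinearMap.lTensor A (HopfAlgebra.antipode k (A := A)) z)) := by
    intro z
    induction z with
    | zero => simp only [map_zero]
    | add a b ha hb => simp only [map_add, ha, hb]
    | tmul r a =>
      rw [lift2_tmul, LinearMap.lTensor_tmul, LinearMap.mul'_apply, map_mul]
      rfl
  rw [h1, HopfAlgebra.mul_antipode_lTensor_comul_apply]

theorem cinv_cmul (g : A →+* T) : cmul (cinv k g) g (cinv_algebraMap g) = triv k A (g.comp (algebraMap k A)) := by
  ext a
  change lift2 _ g _ (Coalgebra.comul (R := k) a) = g (algebraMap k A (Coalgebra.counit (R := k) a))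
  have h1 : ∀ z : A ⊗[k] A, lift2 (cinv k g) g (cinv_algebraMap g) z =
      g (LinearMap.mul' k A (LinearMap.rTensor A (HopfAlgebra.antipode k (A := A)) z)) := by
    intro z
    induction z with
    | zero => simp only [map_zero]
    | add a b ha hb => simp only [map_add, ha, hb]
    | tmul r a =>
      rw [lift2_tmul, LinearMap.rTensor_tmul, LinearMap.mul'_apply, map_mul]
      rfl
  rw [h1, HopfAlgebra.mul_antipode_rTensor_comul_apply]

end Act


section Grpd

variable {k : Type u} [CommRing k] {A : Type w} [CommRing A] [HopfAlgebra k A] {R : Type v} [CommRing R] [Algebra k R]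
  (c : Coaction k A R)

/-- source -/
noncomputable def src (k : Type u) [CommRing k] (A : Type w) [CommRing A] [HopfAlgebra k A] (R : Type v) [CommRing R]
    [Algebra k R] : ULift.{w} R →+* R ⊗[k] A :=
  (Algebra.TensorProduct.includeLeft : R →ₐ[k] R ⊗[k] A).toRingHom.comp (ULift.ringEquiv : ULift.{w} R ≃+* R).toRingHom

/-- target -/
noncomputable def Coaction.tgt : ULift.{w} R →+* R ⊗[k] A :=
  c.ρ.toRingHom.comp (ULift.ringEquiv : ULift.{w} R ≃+* R).toRingHom

theorem comp_up_injective {T : Type*} [CommRing T] {x y : R →+* T}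
    (h : x.comp (ULift.ringEquiv : ULift.{w} R ≃+* R).toRingHom = y.comp (ULift.ringEquiv : ULift.{w} R ≃+* R).toRingHom) :
    x = y := by
  ext r
  exact RingHom.congr_fun h (ULift.up r)

theorem act_pL_pR {T : Type*} [CommRing T] (β : R ⊗[k] A →+* T) :
    c.act (pL β) (pR β) (pLR β) = β.comp c.ρ.toRingHom := by
  rw [Coaction.act, eta]

theorem comp_tgt {T : Type*} [CommRing T] (β : R ⊗[k] A →+* T) :
    β.comp c.tgt = (c.act (pL β) (pR β) (pLR β)).comp (ULift.ringEquiv : ULift.{w} R ≃+* R).toRingHom := by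
  rw [act_pL_pR]; rfl

theorem comp_src {T : Type*} [CommRing T] (β : R ⊗[k] A →+* T) :
    β.comp (src k A R) = (pL β).comp (ULift.ringEquiv : ULift.{w} R ≃+* R).toRingHom := rfl

theorem cond_iff {T : Type*} [CommRing T] (α β : R ⊗[k] A →+* T) (h : α.comp (src k A R) = β.comp c.tgt) :
    pL α = c.act (pL β) (pR β) (pLR β) := by
  rw [comp_src, comp_tgt] at h
  exact comp_up_injective h

theorem cond_alg {T : Type*} [CommRing T] (α β : R ⊗[k] A →+* T) (h : α.comp (src k A R) = β.comp c.tgt) :
    (pR β).comp (algebraMap k A) = (pR α).comp (algebraMap k A) := by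
  rw [← pLR, ← pLR, cond_iff c α β h, c.act_algebraMap]

/-- composition of points -/
noncomputable def Coaction.cmp {T : Type*} [CommRing T] (α β : R ⊗[k] A →+* T) (h : α.comp (src k A R) = β.comp c.tgt) :
    R ⊗[k] A →+* T :=
  lift2 (pL β) (cmul (pR β) (pR α) (cond_alg c α β h)) (by rw [cmul_algebraMap, pLR])

theorem pL_cmp {T : Type*} [CommRing T] (α β : R ⊗[k] A →+* T) (h : α.comp (src k A R) = β.comp c.tgt) :
    pL (c.cmp α β h) = pL β := pL_lift2 _ _ _

theorem pR_cmp {T : Type*} [CommRing T] (α β : R ⊗[k] A →+* T) (h : α.comp (src k A R) = β.comp c.tgt) :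
    pR (c.cmp α β h) = cmul (pR β) (pR α) (cond_alg c α β h) := pR_lift2 _ _ _

theorem act_congr {T : Type*} [CommRing T] {x x' : R →+* T} {g g' : A →+* T} (hx : x = x') (hg : g = g')
    (h : x.comp (algebraMap k R) = g.comp (algebraMap k A)) :
    c.act x g h = c.act x' g' (by rw [← hx, ← hg]; exact h) := by
  subst hx hg; rfl

theorem cmul_congr {T : Type*} [CommRing T] {x x' : A →+* T} {g g' : A →+* T} (hx : x = x') (hg : g = g')
    (h : x.comp (algebraMap k A) = g.comp (algebraMap k A)) :
    cmul x g h = cmul x' g' (by rw [← hx, ← hg]; exact h) := by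
  subst hx hg; rfl

theorem comp_cmul {T T' : Type*} [CommRing T] [CommRing T'] (f : T →+* T') (x g : A →+* T)
    (h : x.comp (algebraMap k A) = g.comp (algebraMap k A)) :
    f.comp (cmul x g h) = cmul (f.comp x) (f.comp g) (by rw [RingHom.comp_assoc, h, RingHom.comp_assoc]) := by
  rw [cmul, Coaction.act, ← RingHom.comp_assoc, comp_lift2]
  rfl

theorem cmp_tgt {T : Type*} [CommRing T] (α β : R ⊗[k] A →+* T) (h : α.comp (src k A R) = β.comp c.tgt) :
    (c.cmp α β h).comp c.tgt = α.comp c.tgt := by
  rw [comp_tgt, comp_tgt]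
  congr 1
  rw [act_congr c (pL_cmp c α β h) (pR_cmp c α β h), act_congr c (cond_iff c α β h) rfl, c.act_act]

/-- unit -/
noncomputable def unit₀ (k : Type u) [CommRing k] (A : Type w) [CommRing A] [HopfAlgebra k A] (R : Type v) [CommRing R]
    [Algebra k R] : R ⊗[k] A →+* R :=
  lift2 (RingHom.id R) (triv k A (algebraMap k R)) (by rw [triv_algebraMap]; rfl)

/-- inverse -/
noncomputable def Coaction.inv₀ : R ⊗[k] A →+* R ⊗[k] A :=
  lift2 c.ρ.toRingHom (cinv k (Algebra.TensorProduct.includeRight : A →ₐ[k] R ⊗[k] A).toRingHom) (by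
    rw [cinv_algebraMap]
    ext a
    change c.ρ (algebraMap k R a) = (Algebra.TensorProduct.includeRight : A →ₐ[k] R ⊗[k] A) (algebraMap k A a)
    rw [AlgHom.commutes, AlgHom.commutes])

theorem pL_unit₀ : pL (unit₀ k A R) = RingHom.id R := pL_lift2 _ _ _
theorem pR_unit₀ : pR (unit₀ k A R) = triv k A (algebraMap k R) := pR_lift2 _ _ _
theorem pL_inv₀ : pL c.inv₀ = c.ρ.toRingHom := pL_lift2 _ _ _
theorem pR_inv₀ : pR c.inv₀ = cinv k (Algebra.TensorProduct.includeRight : A →ₐ[k] R ⊗[k] A).toRingHom := pR_lift2 _ _ _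

theorem act_unit₀ : c.act (pL (unit₀ k A R)) (pR (unit₀ k A R)) (pLR _) = RingHom.id R := by
  rw [act_congr c pL_unit₀ pR_unit₀]
  exact c.act_triv (RingHom.id R)

theorem pL_comp {T T' : Type*} [CommRing T] [CommRing T'] (f : T →+* T') (α : R ⊗[k] A →+* T) :
    pL (f.comp α) = f.comp (pL α) := rfl
theorem pR_comp {T T' : Type*} [CommRing T] [CommRing T'] (f : T →+* T') (α : R ⊗[k] A →+* T) :
    pR (f.comp α) = f.comp (pR α) := rfl

/-- the inverse of a point -/
theorem pL_comp_inv₀ {T : Type*} [CommRing T] (α : R ⊗[k] A →+* T) :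
    pL (α.comp c.inv₀) = c.act (pL α) (pR α) (pLR α) := by
  rw [pL_comp, pL_inv₀, act_pL_pR]

theorem pR_comp_inv₀ {T : Type*} [CommRing T] (α : R ⊗[k] A →+* T) : pR (α.comp c.inv₀) = cinv k (pR α) := by
  rw [pR_comp, pR_inv₀]; rfl

theorem act_inv₀ {T : Type*} [CommRing T] (α : R ⊗[k] A →+* T) :
    c.act (pL (α.comp c.inv₀)) (pR (α.comp c.inv₀)) (pLR _) = pL α := by
  rw [act_congr c (pL_comp_inv₀ c α) (pR_comp_inv₀ c α), c.act_act _ _ _ (pLR α) (cinv_algebraMap _).symm,
    act_congr c rfl (cmul_cinv (pR α)), act_congr c rfl (by rw [← pLR])]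
  exact c.act_triv (pL α)

end Grpd

section RG

variable {k : Type u} [CommRing k] {A : Type w} [CommRing A] [HopfAlgebra k A] {R : Type v} [CommRing R] [Algebra k R]
  (c : Coaction k A R)

theorem triv_congr {T : Type*} [CommRing T] {κ κ' : k →+* T} (h : κ = κ') : triv k A κ = triv k A κ' := by rw [h]

theorem up_down {T : Type*} [CommRing T] (x : R →+* T) :
    (x.comp (ULift.ringEquiv : ULift.{w} R ≃+* R).toRingHom).comp (ULift.ringEquiv : ULift.{w} R ≃+* R).symm.toRingHom =
      x := rfl

/-- The ring-level groupoid of a coaction. -/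
noncomputable def Coaction.grpd : RGrpd.{max v w} (ULift.{w} R) (R ⊗[k] A) where
  s := src k A R
  t := c.tgt
  e := (ULift.ringEquiv : ULift.{w} R ≃+* R).symm.toRingHom.comp (unit₀ k A R)
  i := c.inv₀
  comp α β h := c.cmp α β h
  comp_s α β h := by rw [comp_src, comp_src, pL_cmp]
  comp_t α β h := cmp_tgt c α β h
  comp_nat f α β h := by
    apply pair_ext
    · rw [pL_comp, pL_cmp, pL_cmp, pL_comp]
    · rw [pR_comp, pR_cmp, pR_cmp, comp_cmul]
      rfl
  assoc α β γ h₁ h₂ := by
    apply pair_ext
    · rw [pL_cmp, pL_cmp, pL_cmp]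
    · refine (pR_cmp c _ γ _).trans (Eq.trans ?_ (pR_cmp c α _ _).symm)
      rw [cmul_congr rfl (pR_cmp c α β h₁), cmul_congr (pR_cmp c β γ h₂) rfl, cmul_assoc]
  e_s := by
    refine RingHom.ext fun r => ?_
    change ULift.up (unit₀ k A R (ULift.down r ⊗ₜ 1)) = r
    have := RingHom.congr_fun (pL_unit₀ (k := k) (A := A) (R := R)) r.down
    rw [pL_apply] at this
    rw [this]
    rfl
  e_t := by
    refine RingHom.ext fun r => ?_
    change ULift.up (unit₀ k A R (c.ρ (ULift.down r))) = r
    have := RingHom.congr_fun (act_unit₀ (A := A) c) r.down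
    rw [act_pL_pR] at this
    change unit₀ k A R (c.ρ (ULift.down r)) = r.down at this
    rw [this]
  comp_e α := by
    apply pair_ext
    · rw [pL_cmp, pL_comp, pL_comp, pL_unit₀]
      rfl
    · rw [pR_cmp]
      have h1 : pR (((α.comp (src k A R)).comp ((ULift.ringEquiv : ULift.{w} R ≃+* R).symm.toRingHom.comp
          (unit₀ k A R)))) = triv k A ((pR α).comp (algebraMap k A)) := by
        rw [pR_comp, pR_comp, pR_unit₀, ← pLR]
        rfl
      rw [cmul_congr h1 rfl, triv_cmul]
  e_comp α := by
    apply pair_ext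
    · rw [pL_cmp]
    · rw [pR_cmp]
      have h1 : pR (((α.comp c.tgt).comp ((ULift.ringEquiv : ULift.{w} R ≃+* R).symm.toRingHom.comp
          (unit₀ k A R)))) = triv k A ((pR α).comp (algebraMap k A)) := by
        rw [pR_comp, pR_comp, pR_unit₀, ← pLR]
        rw [← c.act_algebraMap (pL α) (pR α) (pLR α), comp_tgt]
        rfl
      rw [cmul_congr rfl h1, cmul_triv]
  i_s := by
    rw [comp_src, pL_inv₀]
    rfl
  i_t := by
    rw [comp_tgt]
    have := act_inv₀ c (RingHom.id (R ⊗[k] A))
    rw [RingHom.id_comp] at this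
    rw [this]
    rfl
  comp_i α := by
    apply pair_ext
    · rw [pL_cmp, pL_comp_inv₀, comp_tgt, pL_comp, pL_comp, pL_unit₀]
      rfl
    · rw [pR_cmp, cmul_congr (pR_comp_inv₀ c α) rfl, cinv_cmul, comp_tgt, pR_comp, pR_comp, pR_unit₀, ← pLR,
        ← c.act_algebraMap (pL α) (pR α) (pLR α)]
      rfl
  i_comp α := by
    apply pair_ext
    · rw [pL_cmp, comp_src, pL_comp, pL_comp, pL_unit₀]
      rfl
    · rw [pR_cmp, cmul_congr rfl (pR_comp_inv₀ c α), cmul_cinv, comp_src, pR_comp, pR_comp, pR_unit₀, ← pLR]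
      rfl

/-- The dual basis for the source map attached to a finite basis of `A`. -/
noncomputable def srcDB {n : ℕ} (b : Module.Basis (Fin n) k A) : DB (src k A R) n where
  b i := 1 ⊗ₜ b i
  l i := ((ULift.ringEquiv : ULift.{w} R ≃+* R).symm.toAddMonoidHom.comp
    ((TensorProduct.AlgebraTensorModule.rid k R R).toLinearMap ∘ₗ
      (b.coord i).baseChange R).toAddMonoidHom)
  l_mul i a y := by
    apply ULift.down_injective
    change (TensorProduct.AlgebraTensorModule.rid k R R) ((b.coord i).baseChange R ((a.down ⊗ₜ 1) * y)) =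
      a.down * (TensorProduct.AlgebraTensorModule.rid k R R) ((b.coord i).baseChange R y)
    have h1 : (a.down ⊗ₜ[k] (1 : A)) * y = a.down • y := by
      rw [Algebra.smul_def]; rfl
    rw [h1, map_smul, map_smul, smul_eq_mul]
  sum_eq y := by
    change ∑ i, ((TensorProduct.AlgebraTensorModule.rid k R R) ((b.coord i).baseChange R y) ⊗ₜ[k] (1 : A)) *
      ((1 : R) ⊗ₜ[k] b i) = y
    induction y with
    | zero => simp
    | add x y hx hy =>
      conv_rhs => rw [← hx, ← hy]
      rw [← Finset.sum_add_distrib]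
      refine Finset.sum_congr rfl fun i _ => ?_
      rw [map_add, map_add, TensorProduct.add_tmul, add_mul]
    | tmul r a =>
      simp only [LinearMap.baseChange_tmul, AlgebraTensorModule.rid_tmul, Algebra.TensorProduct.tmul_mul_tmul, mul_one,
        one_mul, Module.Basis.coord_apply]
      conv_rhs => rw [← b.sum_repr a, TensorProduct.tmul_sum]
      refine Finset.sum_congr rfl fun i _ => ?_
      rw [TensorProduct.tmul_smul, TensorProduct.smul_tmul']

/-- Invariants of the coaction. -/
noncomputable def Coaction.inv : Subalgebra k R := AlgHom.equalizer c.ρ (Algebra.TensorProduct.includeLeft : R →ₐ[k] R ⊗[k] A)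

theorem Coaction.mem_inv (r : R) : r ∈ c.inv ↔ c.ρ r = r ⊗ₜ 1 := Iff.rfl

/-- The inclusion of the invariants. -/
noncomputable def Coaction.γ : ULift.{w} c.inv →+* ULift.{w} R :=
  (ULift.ringEquiv : ULift.{w} R ≃+* R).symm.toRingHom.comp
    (c.inv.val.toRingHom.comp (ULift.ringEquiv : ULift.{w} c.inv ≃+* c.inv).toRingHom)

theorem Coaction.isQuot : c.grpd.IsQuot c.γ where
  cond := by
    ext r
    exact r.down.2.symm
  inj := by
    intro x y h
    apply ULift.down_injective
    apply Subtype.ext
    exact congrArg ULift.down h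
  ex a h := ⟨⟨a.down, h.symm⟩, rfl⟩

end RG

end K503.ActGrpd
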