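import Groth.Prelude.Def_AlphaP
import Mathlib.RingTheory.Bialgebra.Hom
import Mathlib.Algebra.Field.ZMod
import Mathlib.Data.ZMod.Basic

/-!
# Primitive elements and endomorphisms of `α_p`
-/

set_option autoImplicit false

open TensorProduct

namespace K503.AlphaPrim

universe u v

variable (p : ℕ) [hp : Fact p.Prime] (R : Type u) [CommRing R] [CharP R p]

omit hp [CharP R p] in
theorem basis_coord_pow [Nontrivial R] (i : Fin p) (n : ℕ) :
    (AlphaP.basis p R).coord i (AlphaP.x p R ^ n) = if n = (i : ℕ) then 1 else 0 := by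
  by_cases hn : n < p
  · have h := AlphaP.basis_apply p R ⟨n, hn⟩
    simp only at h
    rw [← h, Module.Basis.coord_apply, Module.Basis.repr_self, Finsupp.single_apply]
    simp only [Fin.ext_iff]
  · rw [AlphaP.x_pow_of_le p R (not_lt.1 hn), map_zero, if_neg]
    have := i.2
    omega

/-- The functional `x^j ⊗ x ↦ 1`, all other monomials to zero. -/
noncomputable def L [Nontrivial R] (j : Fin p) (l : Fin p) : AlphaP.A p R ⊗[R] AlphaP.A p R →ₗ[R] R :=
  LinearMap.mul' R R ∘ₗ TensorProduct.map ((AlphaP.basis p R).coord j) ((AlphaP.basis p R).coord l)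

omit hp [CharP R p] in
@[simp] theorem L_tmul [Nontrivial R] (j l : Fin p) (a b : AlphaP.A p R) :
    L p R j l (a ⊗ₜ b) = (AlphaP.basis p R).coord j a * (AlphaP.basis p R).coord l b := by
  simp [L]

theorem L_comul_pow [Nontrivial R] (j l : Fin p) (n : ℕ) :
    L p R j l (Coalgebra.comul (R := R) (AlphaP.x p R ^ n)) =
      if n = (j : ℕ) + l then (n.choose j : R) else 0 := by
  rw [Bialgebra.comul_pow, AlphaP.comul_x, (Commute.all _ _).add_pow, map_sum]
  have : ∀ m ∈ Finset.range (n + 1), L p R j l ((AlphaP.x p R ⊗ₜ[R] 1) ^ m * (1 ⊗ₜ[R] AlphaP.x p R) ^ (n - m) *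
      ((n.choose m : ℕ) : AlphaP.A p R ⊗[R] AlphaP.A p R)) =
      if m = (j : ℕ) then (if n = (j : ℕ) + l then (n.choose j : R) else 0) else 0 := by
    intro m hm
    have hm' : m ≤ n := Nat.lt_succ_iff.1 (Finset.mem_range.1 hm)
    rw [Algebra.TensorProduct.tmul_pow, Algebra.TensorProduct.tmul_pow, Algebra.TensorProduct.tmul_mul_tmul,
      one_pow, one_pow, one_mul, mul_one, mul_comm, ← nsmul_eq_mul, map_nsmul, L_tmul, basis_coord_pow,
      basis_coord_pow, nsmul_eq_mul]
    by_cases h1 : m = (j : ℕ)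
    · subst h1
      by_cases h2 : n = (j : ℕ) + l
      · rw [if_pos rfl, if_pos (by omega), if_pos rfl, if_pos h2]; simp
      · rw [if_pos rfl, if_neg (by omega), if_pos rfl, if_neg h2]; simp
    · rw [if_neg h1, if_neg h1]; simp
  rw [Finset.sum_congr rfl this, Finset.sum_ite_eq']
  by_cases h2 : n = (j : ℕ) + l
  · rw [if_pos (Finset.mem_range.2 (by omega))]
  · rw [if_neg h2, ite_self]

/-- The primitive elements of `α_p` are the multiples of `x`. -/
theorem primitive_eq (y : AlphaP.A p R)
    (hy : Coalgebra.comul (R := R) y = y ⊗ₜ[R] (1 : AlphaP.A p R) + (1 : AlphaP.A p R) ⊗ₜ[R] y) :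
    ∃ c : R, y = c • AlphaP.x p R := by
  have hpp := hp.out
  have : Nontrivial R := CharP.nontrivial_of_char_ne_one (R := R) hpp.ne_one
  set B := AlphaP.basis p R with hB
  have hy0 : y = ∑ i : Fin p, B.coord i y • AlphaP.x p R ^ (i : ℕ) := by
    conv_lhs => rw [← B.sum_repr y]
    simp only [hB, AlphaP.basis_apply]
    rfl
  have h0 : (1 : AlphaP.A p R) = AlphaP.x p R ^ 0 := (pow_zero _).symm
  have hL : ∀ j l : Fin p, L p R j l (Coalgebra.comul (R := R) y) =
      ∑ i : Fin p, B.coord i y * (if (i : ℕ) = (j : ℕ) + l then ((i : ℕ).choose j : R) else 0) := by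
    intro j l
    conv_lhs => rw [hy0]
    rw [map_sum, map_sum]
    refine Finset.sum_congr rfl fun i _ => ?_
    rw [map_smul, map_smul, L_comul_pow p R j l i, smul_eq_mul]
  have hR : ∀ j l : Fin p, L p R j l (Coalgebra.comul (R := R) y) =
      B.coord j y * (if 0 = (l : ℕ) then 1 else 0) + (if 0 = (j : ℕ) then 1 else 0) * B.coord l y := by
    intro j l
    rw [hy, map_add, L_tmul, L_tmul, h0, basis_coord_pow, basis_coord_pow]
  refine ⟨B.coord ⟨1, hpp.one_lt⟩ y, ?_⟩
  have key : ∀ i : Fin p, (i : ℕ) ≠ 1 → B.coord i y = 0 := by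
    intro i hi
    by_cases hi0 : (i : ℕ) = 0
    · have h1 := (hL i i).symm.trans (hR i i)
      rw [Finset.sum_eq_single i] at h1
      · rw [if_pos (by omega), if_pos hi0.symm, hi0] at h1
        simpa using h1
      · intro b _ hb
        rw [if_neg, mul_zero]
        intro h; apply hb; apply Fin.ext; omega
      · intro h; exact absurd (Finset.mem_univ _) h
    · have hi2 : 2 ≤ (i : ℕ) := by omega
      have hip := i.2
      have h1 := (hL ⟨(i : ℕ) - 1, by omega⟩ ⟨1, hpp.one_lt⟩).symm.trans (hR ⟨(i : ℕ) - 1, by omega⟩ ⟨1, hpp.one_lt⟩)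
      rw [Finset.sum_eq_single i] at h1
      · simp only at h1
        rw [if_pos (by omega), if_neg (by omega), if_neg (by omega), mul_zero, zero_mul, add_zero] at h1
        have h2 : ((i : ℕ).choose ((i : ℕ) - 1) : R) = ((i : ℕ) : R) := by
          rw [Nat.choose_symm (by omega : 1 ≤ (i : ℕ)), Nat.choose_one_right]
        rw [h2] at h1
        have h3 : IsUnit (((i : ℕ) : R)) := by
          have : IsUnit (((i : ℕ) : ZMod p)) := by
            rw [isUnit_iff_ne_zero, Ne, ZMod.natCast_eq_zero_iff]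
            intro h
            exact absurd (Nat.le_of_dvd (by omega) h) (by omega)
          have h4 := this.map (ZMod.castHom (dvd_refl p) R)
          simpa using h4
        exact (h3.mul_left_eq_zero).1 h1
      · intro b _ hb
        simp only
        rw [if_neg, mul_zero]
        intro h; apply hb; apply Fin.ext; omega
      · intro h; exact absurd (Finset.mem_univ _) h
  conv_lhs => rw [hy0]
  rw [Finset.sum_eq_single ⟨1, hpp.one_lt⟩]
  · simp
  · intro b _ hb
    rw [key b, zero_smul]
    intro h; apply hb; apply Fin.ext; exact h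
  · intro h; exact absurd (Finset.mem_univ _) h

end K503.AlphaPrim
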