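import Mathlib.RingTheory.HopfAlgebra.Convolution
import Mathlib.RingTheory.Unramified.Basic
import Mathlib.RingTheory.Etale.Basic
import Mathlib.RingTheory.Smooth.Fiber
import Mathlib.RingTheory.Finiteness.ModuleFinitePresentation

/-!
# Unramified Hopf algebras and the augmentation ideal
-/

set_option autoImplicit false

open TensorProduct WithConv

namespace K503.AugUnram

universe u v w

variable {R : Type u} [CommRing R] {A : Type v} [CommRing A]

/-- The kernel of a section `ε : A → R` of an unramified algebra is idempotent. -/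
theorem ker_sq_eq_of_unramified [Algebra R A] [Algebra.FormallyUnramified R A] (ε : A →ₐ[R] R) :
    RingHom.ker ε ^ 2 = RingHom.ker ε := by
  refine le_antisymm (Ideal.pow_le_self two_ne_zero) ?_
  set I := RingHom.ker ε with hI
  let g₁ : A →ₐ[R] A ⧸ (I ^ 2) := Ideal.Quotient.mkₐ R (I ^ 2)
  let g₂ : A →ₐ[R] A ⧸ (I ^ 2) := (Algebra.ofId R _).comp ε
  have hnil : IsNilpotent (I.map (Ideal.Quotient.mk (I ^ 2))) := by
    refine ⟨2, ?_⟩
    rw [← Ideal.map_pow, Ideal.zero_eq_bot, Ideal.map_quotient_self]
  have h : g₁ = g₂ := by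
    refine Algebra.FormallyUnramified.ext (I.map (Ideal.Quotient.mk (I ^ 2))) hnil ?_
    intro x
    rw [Ideal.Quotient.eq]
    have : g₁ x - g₂ x = Ideal.Quotient.mk (I ^ 2) (x - algebraMap R A (ε x)) := by
      rw [map_sub]; rfl
    rw [this]
    apply Ideal.mem_map_of_mem
    rw [hI, RingHom.mem_ker, map_sub, AlgHom.commutes]
    simp
  intro x hx
  have h2 := AlgHom.congr_fun h x
  have h3 : g₂ x = 0 := by
    change algebraMap R _ (ε x) = 0
    rw [hI, RingHom.mem_ker] at hx
    rw [hx, map_zero]
  rw [h3] at h2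
  exact Ideal.Quotient.eq_zero_iff_mem.1 h2

variable [HopfAlgebra R A]

section Inv

variable {B : Type w} [CommRing B] [Algebra R B]

theorem inv_mul (f : A →ₐ[R] B) :
    (toConv (f.comp (HopfAlgebra.antipodeAlgHom R A)) * toConv f : WithConv (A →ₐ[R] B)) = 1 := by
  apply WithConv.ofConv_injective
  have h := AlgHom.comp_convMul_distrib f (toConv (HopfAlgebra.antipodeAlgHom R A)) (toConv (AlgHom.id R A))
  rw [AlgHom.antipode_id_cancel] at h
  refine h.symm.trans ?_
  apply AlgHom.ext
  intro a
  change f (algebraMap R A (Coalgebra.counit a)) = algebraMap R B (Coalgebra.counit a)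
  rw [AlgHom.commutes]

theorem mul_inv (f : A →ₐ[R] B) :
    (toConv f * toConv (f.comp (HopfAlgebra.antipodeAlgHom R A)) : WithConv (A →ₐ[R] B)) = 1 := by
  apply WithConv.ofConv_injective
  have h := AlgHom.comp_convMul_distrib f (toConv (AlgHom.id R A)) (toConv (HopfAlgebra.antipodeAlgHom R A))
  have h2 : (toConv (AlgHom.id R A) * toConv (HopfAlgebra.antipodeAlgHom R A) : WithConv (A →ₐ[R] A)) = 1 :=
    mul_inv_cancel (toConv (AlgHom.id R A))
  rw [h2] at h
  refine h.symm.trans ?_
  apply AlgHom.ext
  intro a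
  change f (algebraMap R A (Coalgebra.counit a)) = algebraMap R B (Coalgebra.counit a)
  rw [AlgHom.commutes]

end Inv

/-- If the augmentation ideal of a commutative Hopf algebra is idempotent then the algebra is
formally unramified. -/
theorem formallyUnramified_of_sq_eq
    (h : RingHom.ker (Bialgebra.counitAlgHom R A) ^ 2 = RingHom.ker (Bialgebra.counitAlgHom R A)) :
    Algebra.FormallyUnramified R A := by
  rw [Algebra.FormallyUnramified.iff_comp_injective]
  intro B _ _ I hI f g hfg
  let d : WithConv (A →ₐ[R] B) := toConv (f.comp (HopfAlgebra.antipodeAlgHom R A)) * toConv g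
  have h1 : (Ideal.Quotient.mkₐ R I).comp d.ofConv = (1 : WithConv (A →ₐ[R] (B ⧸ I))).ofConv := by
    rw [AlgHom.comp_convMul_distrib]
    change ofConv (toConv (((Ideal.Quotient.mkₐ R I).comp f).comp (HopfAlgebra.antipodeAlgHom R A)) *
      toConv ((Ideal.Quotient.mkₐ R I).comp g)) = _
    rw [show (Ideal.Quotient.mkₐ R I).comp f = (Ideal.Quotient.mkₐ R I).comp g from hfg, inv_mul]
  have h3 : ∀ a ∈ RingHom.ker (Bialgebra.counitAlgHom R A), d.ofConv a ∈ I := by
    intro a ha
    rw [← Ideal.Quotient.eq_zero_iff_mem]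
    have h4 := AlgHom.congr_fun h1 a
    rw [AlgHom.comp_apply] at h4
    refine h4.trans ?_
    change algebraMap R (B ⧸ I) (Bialgebra.counitAlgHom R A a) = 0
    rw [RingHom.mem_ker] at ha
    rw [ha, map_zero]
  have h5 : ∀ a ∈ RingHom.ker (Bialgebra.counitAlgHom R A), d.ofConv a = 0 := by
    intro a ha
    have h6 : (RingHom.ker (Bialgebra.counitAlgHom R A)).map d.ofConv ≤ I :=
      Ideal.map_le_iff_le_comap.2 h3
    have h7 : (RingHom.ker (Bialgebra.counitAlgHom R A) ^ 2).map d.ofConv ≤ ⊥ := by
      rw [Ideal.map_pow, ← hI]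
      exact Ideal.pow_right_mono h6 2
    rw [h] at h7
    exact (Submodule.mem_bot _).1 (h7 (Ideal.mem_map_of_mem _ ha))
  have h8 : d = 1 := by
    apply WithConv.ext
    apply AlgHom.ext
    intro a
    have h9 := h5 (a - algebraMap R A (Bialgebra.counitAlgHom R A a)) (by
      rw [RingHom.mem_ker, map_sub, AlgHom.commutes]; simp)
    rw [map_sub, AlgHom.commutes, sub_eq_zero] at h9
    exact h9
  have h10 : (toConv f : WithConv (A →ₐ[R] B)) = toConv g := by
    calc (toConv f : WithConv (A →ₐ[R] B)) = toConv f * d := by rw [h8, mul_one]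
      _ = (toConv f * toConv (f.comp (HopfAlgebra.antipodeAlgHom R A))) * toConv g := (mul_assoc _ _ _).symm
      _ = toConv g := by rw [mul_inv, one_mul]
  exact WithConv.toConv_injective h10

theorem etale_of_sq_eq [Module.Finite R A] [Module.Projective R A]
    (h : RingHom.ker (Bialgebra.counitAlgHom R A) ^ 2 = RingHom.ker (Bialgebra.counitAlgHom R A)) :
    Algebra.Etale R A := by
  have := formallyUnramified_of_sq_eq h
  have h1 : Module.FinitePresentation R A := Module.finitePresentation_of_projective R A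
  have h2 : Algebra.FinitePresentation R A := inferInstance
  exact Algebra.Etale.of_formallyUnramified_of_flat

theorem etale_iff_sq_eq [Module.Finite R A] [Module.Projective R A] :
    Algebra.Etale R A ↔
      RingHom.ker (Bialgebra.counitAlgHom R A) ^ 2 = RingHom.ker (Bialgebra.counitAlgHom R A) :=
  ⟨fun _ => ker_sq_eq_of_unramified _, etale_of_sq_eq⟩

end K503.AugUnram
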