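import Groth.Agent.Hopf.K503.AugUnram
import Mathlib.RingTheory.Henselian
import Mathlib.RingTheory.LocalRing.ResidueField.Basic
import Mathlib.RingTheory.Ideal.GoingUp
import Mathlib.RingTheory.Flat.FaithfullyFlat.Algebra
import Mathlib.RingTheory.Flat.Localization
import Mathlib.RingTheory.Localization.Away.Basic
import Mathlib.RingTheory.Idempotents
import Mathlib.RingTheory.Nakayama
import Mathlib.RingTheory.Flat.EquationalCriterion
import Mathlib.RingTheory.RingHom.FaithfullyFlat

/-!
# Connected and étale extensions of finite flat group schemes over a local base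
-/

set_option autoImplicit false

open TensorProduct

namespace K503.Conn

universe u v w

section Idem

/-- An idempotent of the Jacobson radical is zero. -/
theorem idem_eq_zero_of_mem_jacobson {B : Type u} [CommRing B] {f : B} (hf : IsIdempotentElem f)
    (h : f ∈ Ideal.jacobson (⊥ : Ideal B)) : f = 0 := by
  have h1 : IsUnit (f * (-1) + 1) := Ideal.mem_jacobson_bot.1 h (-1)
  have h2 : (f * (-1) + 1) * f = 0 := by
    have := hf.eq
    linear_combination -this
  exact (h1.mul_right_eq_zero).1 h2

/-- The extension of a proper ideal of a local ring along an integral map lies in the Jacobson radical. -/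
theorem map_le_jacobson {S : Type u} {B : Type v} [CommRing S] [CommRing B] [IsLocalRing S] (φ : S →+* B)
    (hφ : φ.IsIntegral) (I : Ideal S) (hI : I ≠ ⊤) : I.map φ ≤ Ideal.jacobson (⊥ : Ideal B) := by
  rw [Ideal.jacobson]
  refine le_sInf ?_
  rintro M ⟨-, hM⟩
  have h1 := Ideal.isMaximal_comap_of_isIntegral_of_isMaximal' φ hφ M
  rw [Ideal.map_le_iff_le_comap, IsLocalRing.eq_maximalIdeal h1]
  exact IsLocalRing.le_maximalIdeal hI

/-- Key rigidity lemma: an idempotent in the extension of a proper ideal along an integral map from a local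
ring vanishes. -/
theorem idem_eq_zero {S : Type u} {B : Type v} [CommRing S] [CommRing B] [IsLocalRing S] (φ : S →+* B)
    (hφ : φ.IsIntegral) (I : Ideal S) (hI : I ≠ ⊤) {f : B} (hf : IsIdempotentElem f) (h : f ∈ I.map φ) :
    f = 0 :=
  idem_eq_zero_of_mem_jacobson hf (map_le_jacobson φ hφ I hI h)

/-- In a local ring an idempotent outside of some proper ideal is one. -/
theorem idem_eq_one {S : Type u} [CommRing S] [IsLocalRing S] {f : S} (hf : IsIdempotentElem f)
    {T : Type v} [CommRing T] [Nontrivial T] (ε : S →+* T) (h : ε f = 1) : f = 1 := by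
  have h1 : IsIdempotentElem (1 - f) := hf.one_sub
  have h2 : (1 - f) = 0 := by
    refine idem_eq_zero (RingHom.id S) (RingHom.isIntegral_of_surjective _ Function.surjective_id) (RingHom.ker ε)
      (RingHom.ker_ne_top ε) h1 ?_
    rw [Ideal.map_id, RingHom.mem_ker, map_sub, map_one, h, sub_self]
  exact (sub_eq_zero.1 h2).symm

end Idem

section Ext

variable {R : Type u} [CommRing R] {A A'' : Type u} [CommRing A] [HopfAlgebra R A] [Module.Finite R A]
  [CommRing A''] [HopfAlgebra R A'']
  [Algebra A'' A] [IsScalarTower R A'' A]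

variable [IsLocalRing R]

omit [CommRing A] [HopfAlgebra R A] [Module.Finite R A] [Algebra A'' A] [IsScalarTower R A'' A] in
theorem ker_counit_ne_top : RingHom.ker (Bialgebra.counitAlgHom R A'') ≠ ⊤ := RingHom.ker_ne_top _

theorem isLocalRing_of_extension [IsLocalRing A'']
    [IsLocalRing (A ⧸ (RingHom.ker (Bialgebra.counitAlgHom R A'')).map (algebraMap A'' A))] : IsLocalRing A := by
  have : Module.Finite A'' A := Module.Finite.of_restrictScalars_finite R A'' A
  set J := (RingHom.ker (Bialgebra.counitAlgHom R A'')).map (algebraMap A'' A) with hJ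
  have hJj : J ≤ Ideal.jacobson (⊥ : Ideal A) :=
    map_le_jacobson (algebraMap A'' A) (algebraMap_isIntegral_iff.2 inferInstance) _ ker_counit_ne_top
  have hloc : IsLocalHom (Ideal.Quotient.mk J) := isLocalHom_of_le_jacobson_bot J hJj
  have : Nontrivial A := (Ideal.Quotient.mk J).domain_nontrivial
  refine IsLocalRing.of_isUnit_or_isUnit_one_sub_self fun a => ?_
  rcases IsLocalRing.isUnit_or_isUnit_one_sub_self (Ideal.Quotient.mk J a) with h | h
  · exact Or.inl (isUnit_of_map_unit (Ideal.Quotient.mk J) a h)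
  · refine Or.inr (isUnit_of_map_unit (Ideal.Quotient.mk J) (1 - a) ?_)
    rwa [map_sub, map_one]

omit [Module.Finite R A] [IsLocalRing R] in
theorem map_ker_le (hε : (Bialgebra.counitAlgHom R A).comp (IsScalarTower.toAlgHom R A'' A) = Bialgebra.counitAlgHom R A'') :
    (RingHom.ker (Bialgebra.counitAlgHom R A'')).map (algebraMap A'' A) ≤ RingHom.ker (Bialgebra.counitAlgHom R A) := by
  rw [Ideal.map_le_iff_le_comap]
  intro x hx
  rw [Ideal.mem_comap, RingHom.mem_ker]
  rw [RingHom.mem_ker] at hx
  have := AlgHom.congr_fun hε x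
  rw [hx] at this
  exact this

omit [Module.Finite R A] [IsLocalRing R] in
/-- If the kernel is unramified then `I ≤ I² + J`. -/
theorem ker_le_of_unramified
    (hε : (Bialgebra.counitAlgHom R A).comp (IsScalarTower.toAlgHom R A'' A) = Bialgebra.counitAlgHom R A'')
    [Algebra.FormallyUnramified R (A ⧸ (RingHom.ker (Bialgebra.counitAlgHom R A'')).map (algebraMap A'' A))] :
    RingHom.ker (Bialgebra.counitAlgHom R A) ≤ RingHom.ker (Bialgebra.counitAlgHom R A) ^ 2 ⊔
      (RingHom.ker (Bialgebra.counitAlgHom R A'')).map (algebraMap A'' A) := by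
  set J := (RingHom.ker (Bialgebra.counitAlgHom R A'')).map (algebraMap A'' A) with hJ
  set I := RingHom.ker (Bialgebra.counitAlgHom R A) with hI
  let ε' : (A ⧸ J) →ₐ[R] R := Ideal.Quotient.liftₐ J (Bialgebra.counitAlgHom R A) (fun a ha => map_ker_le hε ha)
  have h1 := K503.AugUnram.ker_sq_eq_of_unramified ε'
  have h2 : RingHom.ker ε' = I.map (Ideal.Quotient.mk J) := by
    apply le_antisymm
    · intro x hx
      obtain ⟨a, rfl⟩ := Ideal.Quotient.mk_surjective x
      exact Ideal.mem_map_of_mem _ hx
    · rw [Ideal.map_le_iff_le_comap]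
      intro a ha
      exact ha
  rw [h2, ← Ideal.map_pow] at h1
  have h3 := congrArg (Ideal.comap (Ideal.Quotient.mk J)) h1
  rw [Ideal.comap_map_of_surjective _ Ideal.Quotient.mk_surjective,
    Ideal.comap_map_of_surjective _ Ideal.Quotient.mk_surjective, ← RingHom.ker_eq_comap_bot, Ideal.mk_ker] at h3
  rw [h3]
  exact le_sup_left

omit [Module.Finite R A] [IsLocalRing R] in
theorem ker_sq_of_extension
    (hε : (Bialgebra.counitAlgHom R A).comp (IsScalarTower.toAlgHom R A'' A) = Bialgebra.counitAlgHom R A'')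
    [Algebra.FormallyUnramified R A'']
    [Algebra.FormallyUnramified R (A ⧸ (RingHom.ker (Bialgebra.counitAlgHom R A'')).map (algebraMap A'' A))] :
    RingHom.ker (Bialgebra.counitAlgHom R A) ^ 2 = RingHom.ker (Bialgebra.counitAlgHom R A) := by
  refine le_antisymm (Ideal.pow_le_self two_ne_zero) ?_
  refine (ker_le_of_unramified hε).trans (sup_le le_rfl ?_)
  rw [← K503.AugUnram.ker_sq_eq_of_unramified (Bialgebra.counitAlgHom R A''), Ideal.map_pow]
  exact Ideal.pow_right_mono (map_ker_le hε) 2

omit [IsLocalRing R] in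
theorem etale_of_extension [IsNoetherianRing R] [Module.Flat R A]
    (hε : (Bialgebra.counitAlgHom R A).comp (IsScalarTower.toAlgHom R A'' A) = Bialgebra.counitAlgHom R A'')
    [Algebra.FormallyUnramified R A'']
    [Algebra.FormallyUnramified R (A ⧸ (RingHom.ker (Bialgebra.counitAlgHom R A'')).map (algebraMap A'' A))] :
    Algebra.Etale R A := by
  have h1 : Module.FinitePresentation R A := Module.finitePresentation_of_finite R A
  have : Module.Projective R A := Module.Flat.projective_of_finitePresentation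
  exact K503.AugUnram.etale_of_sq_eq (ker_sq_of_extension hε)

/-- The projection to a unit component. -/
theorem flat_quot {B : Type v} {C : Type w} [CommRing B] [CommRing C] [Algebra B C] [Module.Flat B C] (e : C)
    (he : IsIdempotentElem e) : Module.Flat B (C ⧸ Ideal.span ({1 - e} : Set C)) := by
  have h1 : IsLocalization.Away e (C ⧸ Ideal.span ({1 - e} : Set C)) :=
    IsLocalization.away_of_isIdempotentElem he (by
      rw [Ideal.Quotient.algebraMap_eq, Ideal.mk_ker]) Ideal.Quotient.mk_surjective
  have h2 : Module.Flat C (C ⧸ Ideal.span ({1 - e} : Set C)) :=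
    IsLocalization.flat _ (Submonoid.powers e)
  exact Module.Flat.trans B C _

/-- Splitting of the unit component over a connected quotient with étale kernel. -/
theorem bijective_unitComponent [IsNoetherianRing R] [Module.FaithfullyFlat A'' A] [IsLocalRing A'']
    (hε : (Bialgebra.counitAlgHom R A).comp (IsScalarTower.toAlgHom R A'' A) = Bialgebra.counitAlgHom R A'')
    [Algebra.FormallyUnramified R (A ⧸ (RingHom.ker (Bialgebra.counitAlgHom R A'')).map (algebraMap A'' A))]
    (e : A) (he : IsIdempotentElem e) (heε : Bialgebra.counitAlgHom R A e = 1)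
    [IsLocalRing (A ⧸ Ideal.span ({1 - e} : Set A))] :
    Function.Bijective (algebraMap A'' (A ⧸ Ideal.span ({1 - e} : Set A))) := by
  have : Module.Finite A'' A := Module.Finite.of_restrictScalars_finite R A'' A
  set K := Ideal.span ({1 - e} : Set A) with hK
  set I := RingHom.ker (Bialgebra.counitAlgHom R A) with hI
  set I'' := RingHom.ker (Bialgebra.counitAlgHom R A'') with hI''
  have hfin : Module.Finite A'' (A ⧸ K) := inferInstance
  have hfl : Module.Flat A'' (A ⧸ K) := flat_quot e he
  have hint : (algebraMap A'' (A ⧸ K)).IsIntegral := algebraMap_isIntegral_iff.2 inferInstance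
  have hloc : IsLocalHom (algebraMap A'' (A ⧸ K)) := by
    have h1 := Ideal.isMaximal_comap_of_isIntegral_of_isMaximal' _ hint (IsLocalRing.maximalIdeal (A ⧸ K))
    exact ((IsLocalRing.local_hom_TFAE (algebraMap A'' (A ⧸ K))).out 0 4).2 (IsLocalRing.eq_maximalIdeal h1)
  have hff : Module.FaithfullyFlat A'' (A ⧸ K) := Module.FaithfullyFlat.of_flat_of_isLocalHom
  refine ⟨FaithfulSMul.algebraMap_injective _ _, ?_⟩
  have hKI : K ≤ I := by
    rw [hK, Ideal.span_singleton_le_iff_mem, hI, RingHom.mem_ker, map_sub, map_one, heε, sub_self]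
  let ε₀ : (A ⧸ K) →ₐ[R] R := Ideal.Quotient.liftₐ K (Bialgebra.counitAlgHom R A) (fun a ha => hKI ha)
  have hne : I.map (Ideal.Quotient.mk K) ≠ ⊤ := by
    intro h
    have h1 : I.map (Ideal.Quotient.mk K) ≤ RingHom.ker ε₀ := by
      rw [Ideal.map_le_iff_le_comap]
      intro a ha
      exact ha
    rw [h, top_le_iff] at h1
    exact RingHom.ker_ne_top ε₀ h1
  have hmain : I.map (Ideal.Quotient.mk K) ≤ I''.map (algebraMap A'' (A ⧸ K)) := by
    have hnoeth : IsNoetherianRing A := isNoetherian_of_isNoetherianRing_of_finite R A |> fun h => by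
      exact isNoetherian_of_tower R h
    refine Submodule.le_of_le_smul_of_le_jacobson_bot (I := I.map (Ideal.Quotient.mk K))
      (IsNoetherian.noetherian _) ?_ ?_
    · rw [IsLocalRing.jacobson_eq_maximalIdeal _ bot_ne_top]
      exact IsLocalRing.le_maximalIdeal hne
    · have h1 := Ideal.map_mono (f := Ideal.Quotient.mk K) (ker_le_of_unramified (R := R) (A := A) (A'' := A'') hε)
      rw [Ideal.map_sup, Ideal.map_pow, Ideal.map_map, sup_comm, pow_two] at h1
      exact h1
  have hNak : (⊤ : Submodule A'' (A ⧸ K)) ≤ LinearMap.range (Algebra.linearMap A'' (A ⧸ K)) := by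
    refine Submodule.le_of_le_smul_of_le_jacobson_bot (I := I'') Module.Finite.fg_top ?_ ?_
    · rw [IsLocalRing.jacobson_eq_maximalIdeal _ bot_ne_top]
      exact IsLocalRing.le_maximalIdeal ker_counit_ne_top
    · intro x _
      obtain ⟨a, rfl⟩ := Ideal.Quotient.mk_surjective x
      have h1 : a - algebraMap R A (Bialgebra.counitAlgHom R A a) ∈ I := by
        rw [hI, RingHom.mem_ker, map_sub, AlgHom.commutes]; simp
      have h2 := hmain (Ideal.mem_map_of_mem (Ideal.Quotient.mk K) h1)
      have h2' : Ideal.Quotient.mk K (a - algebraMap R A (Bialgebra.counitAlgHom R A a)) ∈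
          (I'' • ⊤ : Submodule A'' (A ⧸ K)) := by
        rw [Ideal.smul_top_eq_map]
        exact h2
      have h3 : Ideal.Quotient.mk K a = algebraMap A'' (A ⧸ K) (algebraMap R A'' (Bialgebra.counitAlgHom R A a)) +
          Ideal.Quotient.mk K (a - algebraMap R A (Bialgebra.counitAlgHom R A a)) := by
        rw [map_sub, ← IsScalarTower.algebraMap_apply R A'' (A ⧸ K)]
        change _ = algebraMap R (A ⧸ K) _ + (_ - algebraMap R (A ⧸ K) _)
        ring
      rw [h3]
      exact Submodule.add_mem_sup ⟨_, rfl⟩ h2'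
  intro x
  obtain ⟨y, hy⟩ := hNak (Submodule.mem_top (x := x))
  exact ⟨y, hy⟩

omit [HopfAlgebra R A] [Module.Finite R A] [HopfAlgebra R A''] [IsScalarTower R A'' A] [IsLocalRing R]
  [CommRing R] [CommRing A] [CommRing A''] [Algebra A'' A] in
/-- Faithful flatness of the map induced on unit components. -/
theorem faithfullyFlat_unitComponent {A A'' : Type u} [CommRing A] [CommRing A''] [Algebra A'' A]
    [Module.Flat A'' A] [Algebra.IsIntegral A'' A]
    (e : A) (he : IsIdempotentElem e) [IsLocalRing (A ⧸ Ideal.span ({1 - e} : Set A))]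
    (e'' : A'') (he'' : IsIdempotentElem e'') [IsLocalRing (A'' ⧸ Ideal.span ({1 - e''} : Set A''))]
    (g : (A'' ⧸ Ideal.span ({1 - e''} : Set A'')) →+* (A ⧸ Ideal.span ({1 - e} : Set A)))
    (hg : g.comp (Ideal.Quotient.mk (Ideal.span ({1 - e''} : Set A''))) =
      (Ideal.Quotient.mk (Ideal.span ({1 - e} : Set A))).comp (algebraMap A'' A)) :
    g.FaithfullyFlat := by
  let _ : Algebra (A'' ⧸ Ideal.span ({1 - e''} : Set A'')) (A ⧸ Ideal.span ({1 - e} : Set A)) := g.toAlgebra
  have hst : IsScalarTower A'' (A'' ⧸ Ideal.span ({1 - e''} : Set A'')) (A ⧸ Ideal.span ({1 - e} : Set A)) :=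
    IsScalarTower.of_algebraMap_eq' hg.symm
  have hfl : Module.Flat A'' (A ⧸ Ideal.span ({1 - e} : Set A)) := flat_quot e he
  have hloc : IsLocalization.Away e'' (A'' ⧸ Ideal.span ({1 - e''} : Set A'')) :=
    IsLocalization.away_of_isIdempotentElem he'' (by
      rw [Ideal.Quotient.algebraMap_eq, Ideal.mk_ker]) Ideal.Quotient.mk_surjective
  have hfl2 : Module.Flat (A'' ⧸ Ideal.span ({1 - e''} : Set A'')) (A ⧸ Ideal.span ({1 - e} : Set A)) :=
    (Module.flat_iff_of_isLocalization _ (Submonoid.powers e'') _).2 hfl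
  have hint : g.IsIntegral := by
    have h1 : (g.comp (Ideal.Quotient.mk (Ideal.span ({1 - e''} : Set A'')))).IsIntegral := by
      rw [hg]
      exact RingHom.IsIntegral.trans _ _ (algebraMap_isIntegral_iff.2 inferInstance)
        (RingHom.isIntegral_of_surjective _ Ideal.Quotient.mk_surjective)
    exact RingHom.IsIntegral.tower_top _ _ h1
  have hloc : IsLocalHom (algebraMap (A'' ⧸ Ideal.span ({1 - e''} : Set A'')) (A ⧸ Ideal.span ({1 - e} : Set A))) := by
    have h1 := Ideal.isMaximal_comap_of_isIntegral_of_isMaximal' _ hint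
      (IsLocalRing.maximalIdeal (A ⧸ Ideal.span ({1 - e} : Set A)))
    exact ((IsLocalRing.local_hom_TFAE (algebraMap (A'' ⧸ Ideal.span ({1 - e''} : Set A''))
      (A ⧸ Ideal.span ({1 - e} : Set A)))).out 0 4).2 (IsLocalRing.eq_maximalIdeal h1)
  have hff : Module.FaithfullyFlat (A'' ⧸ Ideal.span ({1 - e''} : Set A''))
    (A ⧸ Ideal.span ({1 - e} : Set A)) := Module.FaithfullyFlat.of_flat_of_isLocalHom
  exact hff

end Ext

section Uniq

/-- Two idempotents with the same value `1` under a homomorphism, both with local quotients, are equal. -/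
theorem idem_unique {S : Type u} [CommRing S] {T : Type v} [CommRing T] [Nontrivial T] (ε : S →+* T)
    (e f : S) (he : IsIdempotentElem e) (hf : IsIdempotentElem f) (h1 : ε e = 1) (h2 : ε f = 1)
    [IsLocalRing (S ⧸ Ideal.span ({1 - e} : Set S))] [IsLocalRing (S ⧸ Ideal.span ({1 - f} : Set S))] : e = f := by
  have key : ∀ e f : S, IsIdempotentElem e → IsIdempotentElem f → ε e = 1 → ε f = 1 →
      IsLocalRing (S ⧸ Ideal.span ({1 - e} : Set S)) → e * f = e := by
    intro e f he hf h1 h2 hloc
    have hker : ∀ a ∈ Ideal.span ({1 - e} : Set S), ε a = 0 := by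
      intro a ha
      obtain ⟨b, rfl⟩ := Ideal.mem_span_singleton.1 ha
      rw [map_mul, map_sub, map_one, h1, sub_self, zero_mul]
    have h3 : Ideal.Quotient.mk (Ideal.span ({1 - e} : Set S)) f = 1 :=
      idem_eq_one (hf.map _) (Ideal.Quotient.lift _ ε hker) (by rw [Ideal.Quotient.lift_mk, h2])
    have h4 : 1 - f ∈ Ideal.span ({1 - e} : Set S) := by
      rw [← Ideal.Quotient.eq_zero_iff_mem, map_sub, map_one, h3, sub_self]
    obtain ⟨b, hb⟩ := Ideal.mem_span_singleton.1 h4
    have h5 : e * (1 - f) = 0 := by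
      rw [hb, ← mul_assoc, mul_sub, mul_one, he.eq, sub_self, zero_mul]
    linear_combination -h5
  rw [← key e f he hf h1 h2 inferInstance, mul_comm, key f e hf he h2 h1 inferInstance]

end Uniq

end K503.Conn
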