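import Groth.Prelude.Def_ConstGrp
import Mathlib.RingTheory.HopfAlgebra.MonoidAlgebra
import Mathlib.RingTheory.Bialgebra.Equiv
import Mathlib.RingTheory.Bialgebra.MonoidAlgebra
import Mathlib.LinearAlgebra.LinearIndependent.Basic
import Mathlib.LinearAlgebra.FiniteDimensional.Lemmas

/-!
# A perfect self-pairing identifies the group algebra with the functions
-/

set_option autoImplicit false

open TensorProduct

namespace K503.ConstChar

universe u v

variable {k : Type u} [Field k] {C : Type v} [CommGroup C] [Fintype C] [DecidableEq C]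

/-- The character function attached to a homomorphism `C → k`. -/
def chi (f : C →* k) : ConstGrp.F k C := fun c => f c

omit [Fintype C] [DecidableEq C] in
@[simp] theorem chi_apply (f : C →* k) (c : C) : chi f c = f c := rfl

theorem comul_chi (f : C →* k) : Coalgebra.comul (R := k) (chi f) = chi f ⊗ₜ[k] chi f := by
  rw [ConstGrp.comul_eq_sum]
  conv_rhs => rw [ConstGrp.eq_sum_smul_e (chi f)]
  rw [TensorProduct.sum_tmul]
  refine Finset.sum_congr rfl fun a _ => ?_
  rw [TensorProduct.tmul_sum]
  refine Finset.sum_congr rfl fun b _ => ?_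
  rw [chi_apply, chi_apply, chi_apply, map_mul, TensorProduct.smul_tmul_smul]

variable (b : C →* (C →* k))

omit [Fintype C] [DecidableEq C] in
/-- The homomorphism `C → F k C`. -/
def chiHom : C →* ConstGrp.F k C where
  toFun a := chi (b a)
  map_one' := by ext c; simp
  map_mul' x y := by ext c; simp

/-- The bialgebra map of a pairing. -/
noncomputable def pairHom : MonoidAlgebra k C →ₐc[k] ConstGrp.F k C :=
  BialgHom.ofAlgHom (MonoidAlgebra.lift k (ConstGrp.F k C) C (chiHom b))
    (by
      apply MonoidAlgebra.algHom_ext'
      · apply MonoidHom.ext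
        intro x
        change Coalgebra.counit (R := k) (MonoidAlgebra.lift k (ConstGrp.F k C) C (chiHom b) (MonoidAlgebra.of k C x)) =
          Coalgebra.counit (R := k) (MonoidAlgebra.single x (1 : k))
        rw [MonoidAlgebra.lift_of, ConstGrp.counit_apply, MonoidAlgebra.counit_single]
        change b x 1 = _
        simp
      · exact Subsingleton.elim _ _)
    (by
      apply MonoidAlgebra.algHom_ext'
      · apply MonoidHom.ext
        intro x
        change (Algebra.TensorProduct.map (MonoidAlgebra.lift k (ConstGrp.F k C) C (chiHom b))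
          (MonoidAlgebra.lift k (ConstGrp.F k C) C (chiHom b))) (Coalgebra.comul (R := k) (MonoidAlgebra.single x (1 : k))) =
          Coalgebra.comul (R := k) (MonoidAlgebra.lift k (ConstGrp.F k C) C (chiHom b) (MonoidAlgebra.of k C x))
        rw [MonoidAlgebra.lift_of, MonoidAlgebra.comul_single]
        change _ = Coalgebra.comul (R := k) (chi (b x))
        rw [comul_chi, CommSemiring.comul_apply, TensorProduct.map_tmul]
        change (Algebra.TensorProduct.map _ _) (MonoidAlgebra.of k C x ⊗ₜ[k] MonoidAlgebra.of k C x) = _
        rw [Algebra.TensorProduct.map_tmul, MonoidAlgebra.lift_of]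
        rfl
      · exact Subsingleton.elim _ _)

theorem pairHom_of (x : C) : pairHom b (MonoidAlgebra.of k C x) = chi (b x) :=
  MonoidAlgebra.lift_of (chiHom b) x

theorem pairHom_bijective (hb : Function.Injective b) : Function.Bijective (pairHom b) := by
  have hli : LinearIndependent k (fun x : C => (chi (b x) : ConstGrp.F k C)) := by
    have h1 := linearIndependent_monoidHom C k
    exact h1.comp b hb
  have h1 : Module.finrank k (ConstGrp.F k C) = Fintype.card C := by
    rw [Module.finrank_eq_card_basis (ConstGrp.basis k C)]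
  have h2 : Module.finrank k (MonoidAlgebra k C) = Fintype.card C := by
    rw [((MonoidAlgebra.coeffLinearEquiv k : MonoidAlgebra k C ≃ₗ[k] (C →₀ k))).finrank_eq, Module.finrank_finsupp_self]
  have h3 : Submodule.span k (Set.range (fun x : C => (chi (b x) : ConstGrp.F k C))) = ⊤ :=
    hli.span_eq_top_of_card_eq_finrank' h1.symm
  have h4 : Function.Surjective (pairHom b : MonoidAlgebra k C →ₗ[k] ConstGrp.F k C) := by
    rw [← LinearMap.range_eq_top, ← top_le_iff, ← h3, Submodule.span_le]
    rintro _ ⟨x, rfl⟩
    exact ⟨MonoidAlgebra.of k C x, pairHom_of b x⟩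
  have : Module.Finite k (MonoidAlgebra k C) :=
    Module.Finite.equiv ((MonoidAlgebra.coeffLinearEquiv k : MonoidAlgebra k C ≃ₗ[k] (C →₀ k))).symm
  have h5 : Function.Injective (pairHom b : MonoidAlgebra k C →ₗ[k] ConstGrp.F k C) :=
    (LinearMap.injective_iff_surjective_of_finrank_eq_finrank (h2.trans h1.symm)).2 h4
  exact ⟨h5, h4⟩

end K503.ConstChar
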