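import Mathlib.RingTheory.HopfAlgebra.TensorProduct
import Mathlib.RingTheory.Bialgebra.TensorProduct
import Mathlib.RingTheory.Bialgebra.Equiv
import Mathlib.RingTheory.Flat.FaithfullyFlat.Basic
import Mathlib.RingTheory.Flat.FaithfullyFlat.Algebra
import Mathlib.LinearAlgebra.TensorProduct.Basis
import Mathlib.LinearAlgebra.Basis.VectorSpace
import Mathlib.LinearAlgebra.TensorProduct.Tower

/-!
# Descent of bialgebra isomorphisms along a finite equalizer system over a field
-/

set_option autoImplicit false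

open TensorProduct

namespace K503.Equalizer

universe u v w

section Exact

variable (K : Type u) [Field K] {ιv ιe : Type v} [Finite ιv]
    (Kv : ιv → Type w) [∀ i, CommRing (Kv i)] [∀ i, Algebra K (Kv i)]
    (Ke : ιe → Type w) [∀ k, CommRing (Ke k)] [∀ k, Algebra K (Ke k)]
    (l r : ιe → ιv) (ρl : ∀ k, Kv (l k) →ₐ[K] Ke k) (ρr : ∀ k, Kv (r k) →ₐ[K] Ke k)
    (hlim : ∀ x : (∀ i, Kv i), (∀ k, ρl k (x (l k)) = ρr k (x (r k))) →
      ∃! a : K, ∀ i, algebraMap K (Kv i) a = x i)

omit [Finite ιv] in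
theorem equiv_map {M : Type*} [AddCommGroup M] [Module K M] {κ : Type*} [DecidableEq κ] (𝒞 : Module.Basis κ K M)
    {L L' : Type*} [CommRing L] [Algebra K L] [CommRing L'] [Algebra K L'] (ρ : L →ₐ[K] L') (z : L ⊗[K] M) (j : κ) :
    TensorProduct.equivFinsuppOfBasisRight 𝒞 (ρ.toLinearMap.rTensor M z) j =
      ρ (TensorProduct.equivFinsuppOfBasisRight 𝒞 z j) := by
  induction z with
  | zero => simp
  | tmul a b =>
    rw [LinearMap.rTensor_tmul, TensorProduct.equivFinsuppOfBasisRight_apply_tmul_apply,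
      TensorProduct.equivFinsuppOfBasisRight_apply_tmul_apply, map_smul]
    rfl
  | add x y hx hy => rw [map_add, map_add, map_add, Finsupp.add_apply, Finsupp.add_apply, hx, hy, map_add]

include hlim in
theorem exists_of_compat {M : Type*} [AddCommGroup M] [Module K M] (y : ∀ i, Kv i ⊗[K] M)
    (hy : ∀ k, (ρl k).toLinearMap.rTensor M (y (l k)) = (ρr k).toLinearMap.rTensor M (y (r k))) :
    ∃ m : M, ∀ i, y i = 1 ⊗ₜ[K] m := by
  classical
  have := Fintype.ofFinite ιv
  let 𝒞 := Module.Basis.ofVectorSpace K M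
  let E := fun i => TensorProduct.equivFinsuppOfBasisRight (R := K) (M := Kv i) 𝒞
  have h1 : ∀ j, ∃! a : K, ∀ i, algebraMap K (Kv i) a = E i (y i) j := by
    intro j
    apply hlim
    intro k
    have := congrArg (fun z => TensorProduct.equivFinsuppOfBasisRight 𝒞 z j) (hy k)
    simp only [equiv_map] at this
    exact this
  choose a ha hau using h1
  let s : Finset (Module.Basis.ofVectorSpaceIndex K M) := Finset.univ.biUnion fun i => (E i (y i)).support
  have hs : ∀ j, j ∉ s → a j = 0 := by
    intro j hj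
    refine ((hau j) 0 ?_).symm
    intro i
    have : j ∉ (E i (y i)).support := fun h => hj (Finset.mem_biUnion.2 ⟨i, Finset.mem_univ _, h⟩)
    simp only [map_zero]
    exact (Finsupp.notMem_support_iff.1 this).symm
  refine ⟨∑ j ∈ s, a j • 𝒞 j, fun i => ?_⟩
  apply (E i).injective
  ext j
  rw [TensorProduct.equivFinsuppOfBasisRight_apply_tmul_apply, ← ha j i, Algebra.algebraMap_eq_smul_one]
  congr 1
  rw [map_sum, Finsupp.finsetSum_apply]
  simp only [map_smul, Module.Basis.repr_self, Finsupp.smul_apply, Finsupp.single_apply, smul_eq_mul, mul_ite,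
    mul_one, mul_zero]
  rw [Finset.sum_ite_eq']
  split_ifs with h
  · rfl
  · exact hs j h

include hlim in
omit [Finite ιv] in
theorem exists_nontrivial : ∃ i, Nontrivial (Kv i) := by
  by_contra h
  push Not at h
  have h' : ∀ i, Subsingleton (Kv i) := h
  obtain ⟨a, -, ha⟩ := hlim (fun i => 0) (fun k => by rw [map_zero, map_zero])
  have h0 := ha 0 (fun i => Subsingleton.elim _ _)
  have h1 := ha 1 (fun i => Subsingleton.elim _ _)
  exact zero_ne_one (h0.trans h1.symm)

end Exact

section Bialg

variable {K : Type u} [Field K] {A B : Type v} [CommRing A] [CommRing B] [Bialgebra K A] [Bialgebra K B]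
  {L : Type w} [CommRing L] [Algebra K L]

/-- The canonical map from the tensor square to the tensor square of the base change. -/
noncomputable def jmap (K : Type u) [Field K] (A : Type v) [CommRing A] [Algebra K A] (L : Type w) [CommRing L]
    [Algebra K L] : A ⊗[K] A →ₗ[K] (L ⊗[K] A) ⊗[L] (L ⊗[K] A) :=
  ((TensorProduct.AlgebraTensorModule.distribBaseChange K L A A).toLinearMap.restrictScalars K) ∘ₗ
    TensorProduct.mk K L (A ⊗[K] A) 1

@[simp] theorem jmap_tmul (a b : A) : jmap K A L (a ⊗ₜ b) = (1 ⊗ₜ[K] a) ⊗ₜ[L] (1 ⊗ₜ[K] b) := rfl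

theorem jmap_injective [Nontrivial L] : Function.Injective (jmap K A L) := by
  refine (TensorProduct.AlgebraTensorModule.distribBaseChange K L A A).injective.comp ?_
  exact Module.FaithfullyFlat.tensorProduct_mk_injective (A := K) (B := L) (A ⊗[K] A)

theorem comul_one_tmul (a : A) :
    Coalgebra.comul (R := L) ((1 : L) ⊗ₜ[K] a) = jmap K A L (Coalgebra.comul (R := K) a) := by
  rw [TensorProduct.comul_tmul]
  have h1 : Coalgebra.comul (R := L) (1 : L) = 1 ⊗ₜ[L] 1 := by
    rw [Bialgebra.comul_one]; rfl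
  rw [h1]
  generalize Coalgebra.comul (R := K) a = z
  induction z with
  | zero => simp
  | tmul x y => rfl
  | add x y hx hy => rw [tmul_add, map_add, map_add, hx, hy]

/-- A linear map whose base change to a nonzero algebra is a bialgebra isomorphism is one. -/
theorem exists_bialgEquiv [Nontrivial L] (u : (L ⊗[K] B) ≃ₐc[L] (L ⊗[K] A)) (v : B →ₗ[K] A)
    (h : ∀ b, u (1 ⊗ₜ[K] b) = 1 ⊗ₜ[K] v b) : ∃ V : B ≃ₐc[K] A, ∀ b, V b = v b := by
  have hinj : ∀ {a a' : A}, (1 : L) ⊗ₜ[K] a = 1 ⊗ₜ[K] a' → a = a' := fun h =>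
    Module.FaithfullyFlat.tensorProduct_mk_injective (A := K) (B := L) A h
  have hu : (u : L ⊗[K] B →ₗ[L] L ⊗[K] A).restrictScalars K = v.lTensor L := by
    apply TensorProduct.ext'
    intro x b
    change u (x ⊗ₜ b) = x ⊗ₜ v b
    have : x ⊗ₜ[K] b = x • ((1 : L) ⊗ₜ[K] b) := by rw [smul_tmul', smul_eq_mul, mul_one]
    rw [this, map_smul, h, smul_tmul', smul_eq_mul, mul_one]
  have hone : v 1 = 1 := by
    apply hinj
    rw [← h]
    exact map_one u
  have hmul : ∀ x y, v (x * y) = v x * v y := by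
    intro x y
    apply hinj
    rw [← h, ← one_mul (1 : L), ← Algebra.TensorProduct.tmul_mul_tmul, map_mul, h, h, Algebra.TensorProduct.tmul_mul_tmul]
  let V : B →ₐ[K] A := AlgHom.ofLinearMap v hone hmul
  have hV : ∀ b, V b = v b := fun b => rfl
  have hc : (Bialgebra.counitAlgHom K A).comp V = Bialgebra.counitAlgHom K B := by
    apply AlgHom.ext
    intro b
    apply (algebraMap K L).injective
    have h1 := CoalgHomClass.counit_comp_apply u ((1 : L) ⊗ₜ[K] b)
    rw [h, TensorProduct.counit_tmul, TensorProduct.counit_tmul] at h1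
    have h2 : Coalgebra.counit (R := L) (1 : L) = 1 := Bialgebra.counit_one
    rw [h2, ← Algebra.algebraMap_eq_smul_one, ← Algebra.algebraMap_eq_smul_one] at h1
    exact h1
  have hd : (Algebra.TensorProduct.map V V).comp (Bialgebra.comulAlgHom K B) = (Bialgebra.comulAlgHom K A).comp V := by
    apply AlgHom.ext
    intro b
    apply jmap_injective (K := K) (A := A) (L := L)
    have h1 := CoalgHomClass.map_comp_comul_apply u ((1 : L) ⊗ₜ[K] b)
    rw [h, comul_one_tmul, comul_one_tmul] at h1
    refine Eq.trans ?_ h1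
    change jmap K A L (Algebra.TensorProduct.map V V (Coalgebra.comul (R := K) b)) = _
    generalize Coalgebra.comul (R := K) b = z
    induction z with
    | zero => simp
    | tmul x y =>
      rw [Algebra.TensorProduct.map_tmul, jmap_tmul, jmap_tmul, TensorProduct.map_tmul]
      change _ = (u (1 ⊗ₜ x)) ⊗ₜ[L] (u (1 ⊗ₜ y))
      rw [h, h]; rfl
    | add x y hx hy => rw [map_add, map_add, map_add, map_add, hx, hy]
  have hbij : Function.Bijective v := by
    rw [← Module.FaithfullyFlat.lTensor_bijective_iff_bijective K L, ← hu]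
    exact EquivLike.bijective u
  exact ⟨BialgEquiv.ofBijective (BialgHom.ofAlgHom V hc hd) hbij, fun b => rfl⟩

end Bialg

end K503.Equalizer
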