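import Mathlib.RingTheory.HopfAlgebra.MonoidAlgebra
import Mathlib.RingTheory.Bialgebra.Equiv
import Mathlib.Algebra.CharP.Lemmas

/-!
# The group algebra as a coalgebra: coefficient functionals, primitive elements vanish
-/

set_option autoImplicit false

open TensorProduct

namespace K503.GrpAlg

universe u v

variable (R : Type u) [CommRing R] {G : Type v}

/-- The coefficient functional of the group algebra at `g`. -/
noncomputable def lc (g : G) : MonoidAlgebra R G →ₗ[R] R :=
  Finsupp.lapply g ∘ₗ (MonoidAlgebra.coeffLinearEquiv R).toLinearMap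

@[simp] theorem lc_apply (g : G) (y : MonoidAlgebra R G) : lc R g y = y.coeff g := rfl

/-- The functional on the tensor square of the group algebra picking the coefficient of `g ⊗ h`. -/
noncomputable def coef (g h : G) : MonoidAlgebra R G ⊗[R] MonoidAlgebra R G →ₗ[R] R :=
  LinearMap.mul' R R ∘ₗ TensorProduct.map (lc R g) (lc R h)

@[simp] theorem coef_tmul (g h : G) (x y : MonoidAlgebra R G) :
    coef R g h (x ⊗ₜ y) = x.coeff g * y.coeff h := by
  simp [coef]

theorem coef_comul [DecidableEq G] (g h : G) (y : MonoidAlgebra R G) :
    coef R g h (Coalgebra.comul (R := R) y) = if g = h then y.coeff g else 0 := by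
  induction y using MonoidAlgebra.induction_linear with
  | zero => simp
  | add x y hx hy => rw [map_add, map_add, hx, hy]; split_ifs <;> simp
  | single x r =>
    rw [MonoidAlgebra.comul_single]
    simp only [CommSemiring.comul_apply, TensorProduct.map_tmul, coef_tmul, MonoidAlgebra.lsingle_apply,
      MonoidAlgebra.coeff_single, Finsupp.single_apply]
    split_ifs <;> simp_all

/-- A group algebra has no nonzero primitive elements. -/
theorem eq_zero_of_primitive [Group G] (y : MonoidAlgebra R G)
    (hy : Coalgebra.comul (R := R) y = y ⊗ₜ[R] (1 : MonoidAlgebra R G) + (1 : MonoidAlgebra R G) ⊗ₜ[R] y) :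
    y = 0 := by
  classical
  apply MonoidAlgebra.coeff_injective
  ext g
  have h := congrArg (coef R g g) hy
  rw [coef_comul, if_pos rfl, map_add, coef_tmul, coef_tmul, MonoidAlgebra.one_def, MonoidAlgebra.coeff_single,
    Finsupp.single_apply] at h
  by_cases hg : (1 : G) = g
  · rw [if_pos hg] at h
    simpa using h
  · rw [if_neg hg] at h
    simpa using h

end K503.GrpAlg
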