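import Groth.Agent.Sga3.H790.HeightOneLocal

/-!
# Height one bialgebras over a field: the number of generators and the dimension
-/

set_option autoImplicit false

namespace K503.HeightOne

open TensorProduct Groth.Agent.Sga3.H790.InvDer Groth.Agent.Sga3.H790.HeightOneField
  Groth.Agent.Sga3.H790.HeightOneLocal

section Field

variable {k B : Type*} [Field k] [CommRing B] [Bialgebra k B]

local notation "ε" => Bialgebra.counitAlgHom k B

/-- A finite-dimensional bialgebra of height one is generated by `n = dim J/J²` elements whose
monomials of exponents `< p` are linearly independent. -/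
theorem exists_generators (p : ℕ) [Fact p.Prime] [CharP k p] [Module.Finite k B]
    (h1 : ∀ a : B, ε a = 0 → a ^ p = 0) :
    ∃ (x : Fin (Module.finrank k (J k B).Cotangent) → B), (∀ i, ε (x i) = 0) ∧
      (∀ f : MvPolynomial (Fin (Module.finrank k (J k B).Cotangent)) k, (∀ m ∈ f.support, ∀ i, m i < p) →
        MvPolynomial.aeval x f = 0 → f = 0) ∧
      Function.Surjective (MvPolynomial.aeval (R := k) x) := by
  have hp : p ≠ 0 := (Fact.out : p.Prime).ne_zero
  have hnt : Nontrivial B := by
    refine ⟨0, 1, fun h => ?_⟩
    have := congrArg ε h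
    rw [map_zero, map_one] at this
    exact zero_ne_one this
  have : IsNoetherianRing B := isNoetherian_of_isNoetherianRing_of_finite k B |> fun h =>
    isNoetherian_of_tower k h
  have : Module.Finite B (J k B) := Module.IsNoetherian.finite B (J k B)
  have : Module.Finite k (J k B).Cotangent := by
    have : Module.Finite B (J k B).Cotangent :=
      Module.Finite.of_surjective _ (J k B).toCotangent_surjective
    exact Module.Finite.trans B _
  set n := Module.finrank k (J k B).Cotangent with hn
  let bas : Module.Basis (Fin n) k (J k B).Cotangent := Module.finBasis k (J k B).Cotangent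
  choose y hy using fun i => (J k B).toCotangent_surjective (bas i)
  let x : Fin n → B := fun i => y i
  have hx : ∀ i, ε (x i) = 0 := fun i => (y i).2
  -- the invariant derivations
  let D : Fin n → Derivation k B B := fun i => invDer (pointDer (bas.coord i)) (pointDer_mul _)
  have hD : ∀ i j, ε (D i (x j)) = if i = j then 1 else 0 := by
    intro i j
    rw [counit_invDer, pointDer_apply _ _ (hx j)]
    have : (⟨x j, hx j⟩ : J k B) = y j := rfl
    rw [this, hy, Module.Basis.coord_apply, Module.Basis.repr_self, Finsupp.single_apply]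
    simp only [eq_comm]
  have hnil : ∀ b ∈ J k B, IsNilpotent b := fun b hb => ⟨p, h1 b hb⟩
  have hdet : IsUnit (Matrix.of fun i j => D i (x j)).det := by
    have h2 : ε (Matrix.of fun i j => D i (x j)).det = 1 := by
      rw [AlgHom.map_det]
      have : (Bialgebra.counitAlgHom k B).mapMatrix (Matrix.of fun i j => D i (x j)) = 1 := by
        ext i j
        rw [AlgHom.mapMatrix_apply, Matrix.map_apply, Matrix.of_apply, hD, Matrix.one_apply]
      rw [this, Matrix.det_one]
    have h3 : (Matrix.of fun i j => D i (x j)).det - 1 ∈ J k B := by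
      rw [RingHom.mem_ker, map_sub, map_one, h2, sub_self]
    have h4 := IsNilpotent.isUnit_one_add (hnil _ h3)
    rwa [add_sub_cancel] at h4
  obtain ⟨E, hE⟩ := exists_dual_derivations D x hdet
  refine ⟨x, hx, fun f hf h0 => eq_zero_of_aeval_eq_zero p x E hE _ f le_rfl hf h0, ?_⟩
  -- surjectivity
  have hspan : J k B = Ideal.span (Set.range x) := by
    apply le_antisymm
    · apply Submodule.le_of_le_smul_of_le_jacobson_bot (I := J k B) (IsNoetherian.noetherian _)
      · intro b hb
        exact Ideal.radical_le_jacobson (hnil b hb)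
      · intro b hb
        have h5 := bas.sum_repr ((J k B).toCotangent ⟨b, hb⟩)
        set c := bas.repr ((J k B).toCotangent ⟨b, hb⟩) with hc
        have h6 : (J k B).toCotangent (⟨b, hb⟩ - ∑ i, c i • y i) = 0 := by
          have : (J k B).toCotangent (∑ i, c i • y i) = ∑ i, c i • bas i := by
            rw [map_sum]
            refine Finset.sum_congr rfl fun i _ => ?_
            rw [← hy]
            exact ((J k B).toCotangent.restrictScalars k).map_smul _ _
          rw [map_sub, this, h5, sub_self]
        rw [Ideal.toCotangent_eq_zero, pow_two] at h6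
        have h7 : ((∑ i, c i • y i : J k B) : B) ∈ Ideal.span (Set.range x) := by
          rw [AddSubmonoidClass.coe_finsetSum]
          refine Ideal.sum_mem _ fun i _ => ?_
          rw [Submodule.coe_smul_of_tower]
          exact Submodule.smul_of_tower_mem _ _ (Ideal.subset_span ⟨i, rfl⟩)
        have h8 : b = ((∑ i, c i • y i : J k B) : B) +
            ((⟨b, hb⟩ - ∑ i, c i • y i : J k B) : B) := by
          rw [AddSubgroupClass.coe_sub]
          ring
        rw [h8]
        exact Submodule.add_mem_sup h7 h6
    · rw [Ideal.span_le]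
      rintro _ ⟨i, rfl⟩
      exact hx i
  rw [← AlgHom.range_eq_top]
  set S := (MvPolynomial.aeval (R := k) x).range with hS
  have hxS : ∀ i, x i ∈ S := fun i => ⟨MvPolynomial.X i, MvPolynomial.aeval_X x i⟩
  let a : Ideal S := Ideal.span (Set.range fun i => (⟨x i, hxS i⟩ : S))
  have ha : a ≤ Ideal.jacobson ⊥ := by
    rw [Ideal.span_le]
    rintro _ ⟨i, rfl⟩
    apply Ideal.radical_le_jacobson
    refine ⟨p, ?_⟩
    rw [Ideal.mem_bot]
    apply Subtype.ext
    exact h1 _ (hx i)
  have hfin : Module.Finite S B := Module.Finite.of_restrictScalars_finite k S B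
  have htop : (⊤ : Submodule S B) ≤ LinearMap.range (Algebra.linearMap S B) := by
    apply Submodule.le_of_le_smul_of_le_jacobson_bot hfin.fg_top ha
    intro b _
    have hb : (proj k B b : B) ∈ Ideal.span (Set.range x) := by
      rw [← hspan]; exact (proj k B b).2
    rw [Ideal.mem_span_range_iff_exists_fun] at hb
    obtain ⟨c, hc⟩ := hb
    have hb2 : b = algebraMap k B (ε b) + ∑ i, c i * x i := by
      rw [hc, coe_proj]; ring
    rw [hb2]
    apply Submodule.add_mem_sup
    · exact ⟨algebraMap k S (ε b), rfl⟩
    · refine Submodule.sum_mem _ fun i _ => ?_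
      have : c i * x i = (⟨x i, hxS i⟩ : S) • c i := by
        rw [mul_comm]; rfl
      rw [this]
      exact Submodule.smul_mem_smul (Ideal.subset_span ⟨i, rfl⟩) trivial
  rw [eq_top_iff]
  intro b _
  obtain ⟨s, hs⟩ := htop (show b ∈ (⊤ : Submodule S B) from trivial)
  rw [← hs]
  exact s.2


/-- The monomials of exponents `< p` in the generators form a basis. -/
theorem exists_bijective (p : ℕ) [Fact p.Prime] [CharP k p] [Module.Finite k B]
    (h1 : ∀ a : B, ε a = 0 → a ^ p = 0) :
    ∃ (x : Fin (Module.finrank k (J k B).Cotangent) → B), (∀ i, ε (x i) = 0) ∧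
      Function.Bijective (Finsupp.linearCombination k (mon p k x)) := by
  obtain ⟨y, hy, hli, hsurj⟩ := exists_generators p h1
  refine ⟨y, hy, ?_, ?_⟩
  · change LinearIndependent k (mon p k y)
    rw [linearIndependent_iff']
    intro s g hg m hm
    classical
    have h3 := hli (∑ m ∈ s, MvPolynomial.monomial m.1 (g m)) ?_ ?_
    · have h4 := congrArg (MvPolynomial.coeff m.1) h3
      rw [MvPolynomial.coeff_sum, MvPolynomial.coeff_zero, Finset.sum_eq_single m] at h4
      · rwa [MvPolynomial.coeff_monomial, if_pos rfl] at h4
      · intro m' _ hne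
        rw [MvPolynomial.coeff_monomial, if_neg]
        exact fun h => hne (Subtype.ext h)
      · intro h
        exact absurd hm h
    · intro m' hm' i
      obtain ⟨m'', _, h6⟩ := Finset.mem_biUnion.mp (MvPolynomial.support_sum hm')
      have h7 := MvPolynomial.support_monomial_subset h6
      rw [Finset.mem_singleton] at h7
      rw [h7]
      exact m''.2 i
    · rw [map_sum, ← hg]
      exact Finset.sum_congr rfl fun m _ => aeval_monomial_eq y m _
  · rw [← LinearMap.range_eq_top, eq_top_iff]
    intro b _
    obtain ⟨f, rfl⟩ := hsurj b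
    rw [aeval_eq_sum y (fun i => h1 _ (hy i)) f]
    rw [Finsupp.range_linearCombination]
    exact Submodule.sum_mem _ fun m _ => Submodule.smul_mem _ _ (Submodule.subset_span ⟨m, rfl⟩)

/-- Exponents `< p` are functions to `Fin p`. -/
noncomputable def expsEquiv (n p : ℕ) : Exps n p ≃ (Fin n → Fin p) where
  toFun m i := ⟨m.1 i, m.2 i⟩
  invFun f := ⟨Finsupp.equivFunOnFinite.symm fun i => (f i : ℕ), fun i => (f i).2⟩
  left_inv m := by
    apply Subtype.ext
    ext i
    rfl
  right_inv f := by
    funext i
    rfl

theorem finrank_eq (p : ℕ) [Fact p.Prime] [CharP k p] [Module.Finite k B]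
    (h1 : ∀ a : B, ε a = 0 → a ^ p = 0) :
    Module.finrank k B = p ^ Module.finrank k (J k B).Cotangent := by
  obtain ⟨x, -, hx⟩ := exists_bijective p h1
  have e : (Exps (Module.finrank k (J k B).Cotangent) p →₀ k) ≃ₗ[k] B := LinearEquiv.ofBijective _ hx
  have : Fintype (Exps (Module.finrank k (J k B).Cotangent) p) := Fintype.ofEquiv _ (expsEquiv _ p).symm
  rw [← e.finrank_eq, Module.finrank_finsupp_self, Fintype.card_congr (expsEquiv _ p)]
  simp

end Field

end K503.HeightOne
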