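import Mathlib.RingTheory.HopfAlgebra.Quotient
import Mathlib.RingTheory.Bialgebra.Hom
import Mathlib.RingTheory.Bialgebra.Equiv
import Mathlib.LinearAlgebra.TensorProduct.RightExactness
import Mathlib.RingTheory.TensorProduct.Maps

/-!
# Quotients of Hopf algebras: lifting bialgebra maps, criteria for Hopf ideals
-/

set_option autoImplicit false

open TensorProduct

namespace K503.HopfQuot

universe u v w

variable {R : Type u} [CommRing R] {A : Type v} [CommRing A] {B : Type w} [CommRing B]

section Lift

variable [HopfAlgebra R A] [Bialgebra R B]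

/-- The bialgebra map out of the quotient by a Hopf ideal. -/
noncomputable def lift (I : Ideal A) [I.IsHopfIdeal R] (φ : A →ₐc[R] B) (h : ∀ a ∈ I, φ a = 0) : A ⧸ I →ₐc[R] B :=
  BialgHom.ofAlgHom (Ideal.Quotient.liftₐ I (φ : A →ₐ[R] B) h)
    (by
      apply Ideal.Quotient.algHom_ext
      apply AlgHom.ext
      intro a
      exact CoalgHomClass.counit_comp_apply φ a)
    (by
      apply Ideal.Quotient.algHom_ext
      apply AlgHom.ext
      intro a
      change (Algebra.TensorProduct.map _ _) (Bialgebra.comulAlgHom R (A ⧸ I) (Ideal.Quotient.mk I a)) =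
        Bialgebra.comulAlgHom R B (φ a)
      have h1 : Bialgebra.comulAlgHom R (A ⧸ I) (Ideal.Quotient.mk I a) =
        (Algebra.TensorProduct.map (Ideal.Quotient.mkₐ R I) (Ideal.Quotient.mkₐ R I)) (Coalgebra.comul (R := R) a) := rfl
      rw [h1, ← AlgHom.comp_apply, ← Algebra.TensorProduct.map_comp]
      exact CoalgHomClass.map_comp_comul_apply φ a)

@[simp] theorem lift_mk (I : Ideal A) [I.IsHopfIdeal R] (φ : A →ₐc[R] B) (h : ∀ a ∈ I, φ a = 0) (a : A) :
    lift I φ h (Ideal.Quotient.mk I a) = φ a := rfl

end Lift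

end K503.HopfQuot
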