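import Groth.Agent.Hopf.K503.Prim
import Groth.Agent.Hopf.K503.HopfKer

/-!
# Monogenic augmented algebras; nilpotency of the augmentation ideal
-/

set_option autoImplicit false

namespace K503.Monogenic

universe u v

variable {k : Type u} [Field k] {A : Type v} [CommRing A] [Algebra k A]

/-- If the augmentation ideal is generated by one element `y` with `y ^ n = 0`, then `1, y, …, y^(n-1)` span. -/
theorem span_pow_eq_top (ε : A →ₐ[k] k) (y : A) (hy : RingHom.ker ε = Ideal.span {y}) (n : ℕ) (hn : y ^ n = 0) :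
    ⊤ ≤ Submodule.span k (Set.range (fun i : Fin n => y ^ (i : ℕ))) := by
  have key : ∀ m : ℕ, ∀ a : A, ∃ s ∈ Submodule.span k (Set.range (fun i : Fin m => y ^ (i : ℕ))), ∃ b : A,
      a = s + b * y ^ m := by
    intro m
    induction m with
    | zero => intro a; exact ⟨0, Submodule.zero_mem _, a, by simp⟩
    | succ m ih =>
      intro a
      obtain ⟨s, hs, b, rfl⟩ := ih a
      have h1 : b - algebraMap k A (ε b) ∈ Ideal.span {y} := by
        rw [← hy, RingHom.mem_ker, map_sub, AlgHom.commutes]; simp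
      obtain ⟨c, hc⟩ := Ideal.mem_span_singleton.1 h1
      refine ⟨s + ε b • y ^ m, Submodule.add_mem _ ?_ ?_, c, ?_⟩
      · refine Submodule.span_mono ?_ hs
        rintro _ ⟨i, rfl⟩
        exact ⟨Fin.castSucc i, rfl⟩
      · exact Submodule.smul_mem _ _ (Submodule.subset_span ⟨Fin.last m, rfl⟩)
      · rw [Algebra.smul_def]
        have : b = algebraMap k A (ε b) + y * c := by rw [← hc]; ring
        conv_lhs => rw [this]
        ring
  intro a _
  obtain ⟨s, hs, b, rfl⟩ := key n a
  rw [hn, mul_zero, add_zero]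
  exact hs

theorem finrank_le_of_span (ε : A →ₐ[k] k) (y : A) (hy : RingHom.ker ε = Ideal.span {y}) (n : ℕ) (hn : y ^ n = 0) :
    Module.finrank k A ≤ n := by
  have h := span_pow_eq_top ε y hy n hn
  have h1 := finrank_range_le_card (R := k) (fun i : Fin n => y ^ (i : ℕ))
  rw [Fintype.card_fin] at h1
  rw [← finrank_top k A, ← top_le_iff.1 h]
  exact h1

variable [Module.Finite k A] [IsLocalRing A]

theorem isNilpotent_of_ker (ε : A →ₐ[k] k) (x : A) (hx : ε x = 0) : IsNilpotent x := by
  have hart : IsArtinianRing A := IsArtinianRing.of_finite k A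
  have h1 : x ∈ IsLocalRing.maximalIdeal A :=
    IsLocalRing.le_maximalIdeal (RingHom.ker_ne_top ε) hx
  rw [← IsLocalRing.jacobson_eq_maximalIdeal ⊥ bot_ne_top] at h1
  obtain ⟨n, hn⟩ := IsArtinianRing.isNilpotent_jacobson_bot (R := A)
  exact ⟨n, by
    have := Ideal.pow_mem_pow h1 n
    rw [hn] at this
    exact this⟩

end K503.Monogenic
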