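import Groth.Agent.Hopf.K503.PrimMap
import Groth.Agent.Hopf.K503.AlphaPrim
import Groth.Agent.Hopf.K503.GrpAlg
import Groth.Agent.Hopf.K503.AugUnram
import Groth.Agent.S17325
import Mathlib.RingTheory.HopfAlgebra.MonoidAlgebra

/-!
# Surjections of non-reduced finite commutative Hopf algebras to the Hopf algebras of `μ_p` and `α_p`
-/

set_option autoImplicit false

open TensorProduct WithConv K503.PrimMap

namespace K503.MuAlpha

universe u v w

section Alpha

variable (p : ℕ) [hp : Fact p.Prime] (k : Type u) [Field k] [CharP k p]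

/-- The tangent vector of `α_p`. -/
noncomputable def tα : WithConv (AlphaP.A p k →ₗ[k] k) := toConv ((AlphaP.basis p k).coord ⟨1, hp.out.one_lt⟩)

theorem tα_pow (n : ℕ) : tα p k (AlphaP.x p k ^ n) = if n = 1 then 1 else 0 :=
  AlphaPrim.basis_coord_pow p k ⟨1, hp.out.one_lt⟩ n

theorem counit_pow (n : ℕ) : Coalgebra.counit (R := k) (AlphaP.x p k ^ n) = if n = 0 then 1 else 0 := by
  rw [Bialgebra.counit_pow, AlphaP.counit_x]
  split_ifs with h
  · rw [h, pow_zero]
  · rw [zero_pow h]

theorem isDer_tα : IsDer (tα p k) := by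
  intro a b
  have h : (LinearMap.mul k (AlphaP.A p k)).compr₂ (tα p k).ofConv =
      (LinearMap.mul k k).compl₁₂ (tα p k).ofConv (Coalgebra.counit (R := k) (A := AlphaP.A p k)) +
      (LinearMap.mul k k).compl₁₂ (Coalgebra.counit (R := k) (A := AlphaP.A p k)) (tα p k).ofConv := by
    refine (AlphaP.basis p k).ext fun i => (AlphaP.basis p k).ext fun j => ?_
    rw [AlphaP.basis_apply, AlphaP.basis_apply]
    change tα p k (AlphaP.x p k ^ (i : ℕ) * AlphaP.x p k ^ (j : ℕ)) =
      tα p k (AlphaP.x p k ^ (i : ℕ)) * Coalgebra.counit (R := k) (AlphaP.x p k ^ (j : ℕ)) +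
      Coalgebra.counit (R := k) (AlphaP.x p k ^ (i : ℕ)) * tα p k (AlphaP.x p k ^ (j : ℕ))
    rw [← pow_add, tα_pow, tα_pow, tα_pow, counit_pow, counit_pow]
    split_ifs <;> first | omega | simp
  exact LinearMap.congr_fun (LinearMap.congr_fun h a) b

theorem tα_ne_zero : tα p k ≠ 0 := by
  intro h
  have h1 := tα_pow p k 1
  rw [h, if_pos rfl] at h1
  exact zero_ne_one h1

theorem mul_apply_prim {A : Type v} [CommRing A] [Bialgebra k A] (f g : WithConv (A →ₗ[k] k)) (y : A)
    (hy : Coalgebra.comul (R := k) y = y ⊗ₜ[k] (1 : A) + (1 : A) ⊗ₜ[k] y) : (f * g) y = f y * g 1 + f 1 * g y := by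
  rw [LinearMap.convMul_apply, hy, map_add, map_add, TensorProduct.map_tmul, TensorProduct.map_tmul,
    LinearMap.mul'_apply, LinearMap.mul'_apply]

theorem tα_pow_p : tα p k ^ p = (0 : k) • tα p k := by
  rw [zero_smul]
  have h1 : IsDer (tα p k ^ p) := (isDer_tα p k).pow_char p
  have h2' : ∀ n : ℕ, 2 ≤ n → (tα p k ^ n) (AlphaP.x p k) = 0 := by
    intro n hn
    obtain ⟨m, rfl⟩ := Nat.exists_eq_add_of_le hn
    rw [show 2 + m = (m + 1) + 1 by ring, pow_succ, mul_apply_prim k _ _ _ (AlphaP.comul_x p k),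
      (isDer_tα p k).apply_one, (isDer_tα p k).pow_apply_one, if_neg (Nat.succ_ne_zero m)]
    ring
  have h2 := h2' p hp.out.two_le
  apply WithConv.ext
  refine (AlphaP.basis p k).ext fun i => ?_
  rw [AlphaP.basis_apply]
  change (tα p k ^ p) (AlphaP.x p k ^ (i : ℕ)) = 0
  have key : ∀ n : ℕ, (tα p k ^ p) (AlphaP.x p k ^ n) = 0 := by
    intro n
    induction n with
    | zero => rw [pow_zero, h1.apply_one]
    | succ n ih => rw [pow_succ, h1, ih, h2]; ring
  exact key i

end Alpha

section Mu

variable (p : ℕ) [hp : Fact p.Prime] (k : Type u) [Field k] [CharP k p]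

/-- The tangent vector of `μ_p`. -/
noncomputable def tμ : WithConv (MonoidAlgebra k (Multiplicative (ZMod p)) →ₗ[k] k) :=
  toConv (Finsupp.linearCombination k (fun g : Multiplicative (ZMod p) =>
    ZMod.castHom (dvd_refl p) k g.toAdd) ∘ₗ (MonoidAlgebra.coeffLinearEquiv k).toLinearMap)

theorem tμ_single (g : Multiplicative (ZMod p)) : tμ p k (MonoidAlgebra.single g 1) =
    ZMod.castHom (dvd_refl p) k g.toAdd := by
  change Finsupp.linearCombination k _ (MonoidAlgebra.single g 1).coeff = _
  rw [MonoidAlgebra.coeff_single, Finsupp.linearCombination_single, one_smul]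

theorem counit_single (g : Multiplicative (ZMod p)) :
    Coalgebra.counit (R := k) (MonoidAlgebra.single g 1 : MonoidAlgebra k (Multiplicative (ZMod p))) = 1 := by
  simp

theorem comul_single (g : Multiplicative (ZMod p)) :
    Coalgebra.comul (R := k) (MonoidAlgebra.single g 1 : MonoidAlgebra k (Multiplicative (ZMod p))) =
      MonoidAlgebra.single g 1 ⊗ₜ MonoidAlgebra.single g 1 := by
  simp

theorem lin_ext {M : Type*} [AddCommGroup M] [Module k M]
    {f g : MonoidAlgebra k (Multiplicative (ZMod p)) →ₗ[k] M}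
    (h : ∀ x, f (MonoidAlgebra.single x 1) = g (MonoidAlgebra.single x 1)) : f = g := by
  refine LinearMap.ext fun y => ?_
  induction y using MonoidAlgebra.induction_linear with
  | zero => rw [map_zero, map_zero]
  | add x y hx hy => rw [map_add, map_add, hx, hy]
  | single x r =>
    have : (MonoidAlgebra.single x r : MonoidAlgebra k (Multiplicative (ZMod p))) =
        r • MonoidAlgebra.single x 1 := by
      rw [MonoidAlgebra.smul_single, smul_eq_mul, mul_one]
    rw [this, map_smul, map_smul, h]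

theorem isDer_tμ : IsDer (tμ p k) := by
  intro a b
  have h : (LinearMap.mul k (MonoidAlgebra k (Multiplicative (ZMod p)))).compr₂ (tμ p k).ofConv =
      (LinearMap.mul k k).compl₁₂ (tμ p k).ofConv
        (Coalgebra.counit (R := k) (A := MonoidAlgebra k (Multiplicative (ZMod p)))) +
      (LinearMap.mul k k).compl₁₂ (Coalgebra.counit (R := k) (A := MonoidAlgebra k (Multiplicative (ZMod p))))
        (tμ p k).ofConv := by
    refine lin_ext p k fun x => lin_ext p k fun y => ?_
    change tμ p k (MonoidAlgebra.single x 1 * MonoidAlgebra.single y 1) =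
      tμ p k (MonoidAlgebra.single x 1) * Coalgebra.counit (R := k) _ +
      Coalgebra.counit (R := k) _ * tμ p k (MonoidAlgebra.single y 1)
    rw [MonoidAlgebra.single_mul_single, mul_one, tμ_single, tμ_single, tμ_single, counit_single, counit_single,
      toAdd_mul, map_add, mul_one, one_mul]
  exact LinearMap.congr_fun (LinearMap.congr_fun h a) b

theorem tμ_ne_zero : tμ p k ≠ 0 := by
  intro h
  have h1 : tμ p k (MonoidAlgebra.single (Multiplicative.ofAdd 1) 1) = 1 := by
    rw [tμ_single, toAdd_ofAdd]; exact map_one _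
  rw [h] at h1
  exact zero_ne_one h1

theorem tμ_pow_p : tμ p k ^ p = (1 : k) • tμ p k := by
  rw [one_smul]
  apply WithConv.ext
  refine lin_ext p k fun g => ?_
  have key : ∀ n : ℕ, (tμ p k ^ n) (MonoidAlgebra.single g 1) = (tμ p k (MonoidAlgebra.single g 1)) ^ n := by
    intro n
    induction n with
    | zero => rw [pow_zero, pow_zero, LinearMap.convOne_apply, counit_single, map_one]
    | succ n ih => rw [pow_succ, mul_apply_grp _ _ _ (comul_single p k g), ih, pow_succ]
  change (tμ p k ^ p) (MonoidAlgebra.single g 1) = tμ p k (MonoidAlgebra.single g 1)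
  rw [key, tμ_single, ← map_pow, ZMod.pow_card]

theorem finrank_mu : Module.finrank k (MonoidAlgebra k (Multiplicative (ZMod p))) = p := by
  have : NeZero p := ⟨hp.out.ne_zero⟩
  rw [(MonoidAlgebra.coeffLinearEquiv k : MonoidAlgebra k (Multiplicative (ZMod p)) ≃ₗ[k] _).finrank_eq]
  rw [Module.finrank_finsupp_self, Fintype.card_multiplicative, ZMod.card]

theorem finite_mu : Module.Finite k (MonoidAlgebra k (Multiplicative (ZMod p))) := by
  have : NeZero p := ⟨hp.out.ne_zero⟩
  exact Module.Finite.equiv (MonoidAlgebra.coeffLinearEquiv k : MonoidAlgebra k (Multiplicative (ZMod p)) ≃ₗ[k] _).symm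

end Mu

section Exists

variable {k : Type u} [Field k] {A : Type v} [CommRing A] [HopfAlgebra k A] [Module.Finite k A]

/-- A nonreduced finite group algebra has a nonzero point derivation. -/
theorem exists_isDer (hA : ¬ IsReduced A) : ∃ x : WithConv (A →ₗ[k] k), IsDer x ∧ x ≠ 0 := by
  set I := RingHom.ker (Bialgebra.counitAlgHom k A) with hI
  have hne : I ^ 2 ≠ I := by
    intro h
    have := AugUnram.etale_of_sq_eq h
    exact hA (Algebra.FormallyUnramified.isReduced_of_field k A)
  obtain ⟨a, haI, ha⟩ : ∃ a ∈ I, a ∉ I ^ 2 := by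
    by_contra h
    push Not at h
    exact hne (le_antisymm (Ideal.pow_le_self two_ne_zero) h)
  have hε : ∀ b : A, b ∈ I ↔ Coalgebra.counit (R := k) b = 0 := fun b => Iff.rfl
  let W : Submodule k A := (I ^ 2).restrictScalars k ⊔ Submodule.span k {1}
  have haW : a ∉ W := by
    intro h
    obtain ⟨b, hb, c, hc, hbc⟩ := Submodule.mem_sup.1 h
    obtain ⟨r, rfl⟩ := Submodule.mem_span_singleton.1 hc
    have hb' : b ∈ I ^ 2 := hb
    have h1 := (hε b).1 (Ideal.pow_le_self two_ne_zero hb')
    have h2 := (hε a).1 haI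
    rw [← hbc, map_add, h1, map_smul, Bialgebra.counit_one, smul_eq_mul, mul_one, zero_add] at h2
    rw [← hbc, h2, zero_smul, add_zero] at ha
    exact ha hb'
  obtain ⟨f, hfa, hfW⟩ := Submodule.exists_le_ker_of_notMem haW
  have hf1 : f 1 = 0 := hfW (Submodule.mem_sup_right (Submodule.mem_span_singleton_self _))
  have hf2 : ∀ b c : A, b ∈ I → c ∈ I → f (b * c) = 0 := by
    intro b c hb hc
    refine hfW (Submodule.mem_sup_left ?_)
    change b * c ∈ I ^ 2
    rw [pow_two]; exact Ideal.mul_mem_mul hb hc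
  refine ⟨toConv f, fun b c => ?_, ?_⟩
  · change f (b * c) = f b * _ + _ * f c
    have h1 := hf2 (b - algebraMap k A (Coalgebra.counit (R := k) b)) (c - algebraMap k A (Coalgebra.counit (R := k) c))
      (by rw [hε, map_sub, Bialgebra.counit_algebraMap, sub_self])
      (by rw [hε, map_sub, Bialgebra.counit_algebraMap, sub_self])
    have h2 : (b - algebraMap k A (Coalgebra.counit (R := k) b)) * (c - algebraMap k A (Coalgebra.counit (R := k) c)) =
        b * c - (Coalgebra.counit (R := k) c) • b - (Coalgebra.counit (R := k) b) • c +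
          (Coalgebra.counit (R := k) b * Coalgebra.counit (R := k) c) • (1 : A) := by
      rw [Algebra.smul_def, Algebra.smul_def, Algebra.smul_def, map_mul]
      ring
    rw [h2, map_add, map_sub, map_sub, map_smul, map_smul, map_smul, hf1, smul_zero, add_zero, smul_eq_mul,
      smul_eq_mul] at h1
    linear_combination h1
  · intro h
    apply hfa
    exact congrArg (fun z : WithConv (A →ₗ[k] k) => z a) h

variable (p : ℕ) [hp : Fact p.Prime] [CharP k p] [IsAlgClosed k]

include p hp in
theorem exists_isDer_pow (hA : ¬ IsReduced A) :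
    ∃ x : WithConv (A →ₗ[k] k), IsDer x ∧ x ≠ 0 ∧ (x ^ p = (1 : k) • x ∨ x ^ p = (0 : k) • x) := by
  obtain ⟨x₀, hx₀, hx₀0⟩ := exists_isDer (k := k) hA
  let D := WithConv (A →ₗ[k] k)
  have hfin : Module.Finite k D := Module.Finite.equiv (WithConv.linearEquiv k (A →ₗ[k] k)).symm
  let P : Submodule k D :=
    { carrier := {x | IsDer x}
      add_mem' := fun hx hy => hx.add hy
      zero_mem' := isDer_zero
      smul_mem' := fun c x hx => hx.smul c }
  let L : D →ₐ[k] Module.End k D := Algebra.lmul k D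
  have hL : Function.Injective L := Algebra.lmul_injective
  obtain ⟨u, hu, hu0, c, hc⟩ := Groth.Agent.S17325.result k p D (P.map L.toLinearMap) (by
    rintro _ ⟨x, hx, rfl⟩
    exact ⟨x ^ p, hx.pow_char p, map_pow L x p⟩) (by
    intro h
    have h1 : L x₀ ∈ P.map L.toLinearMap := ⟨x₀, hx₀, rfl⟩
    rw [h, Submodule.mem_bot] at h1
    exact hx₀0 (hL (by rw [h1, map_zero])))
  obtain ⟨x, hx, rfl⟩ := hu
  have hx0 : x ≠ 0 := by
    rintro rfl
    exact hu0 (map_zero L)
  have hxp : x ^ p = c • x := by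
    apply hL
    rw [map_pow, map_smul]
    exact hc
  by_cases hc0 : c = 0
  · exact ⟨x, hx, hx0, Or.inr (by rw [hxp, hc0])⟩
  · obtain ⟨l, hl⟩ := IsAlgClosed.exists_pow_nat_eq (c⁻¹) (n := p - 1) (by have := hp.out.two_le; omega)
    have hl0 : l ≠ 0 := by
      rintro rfl
      rw [zero_pow (by have := hp.out.two_le; omega)] at hl
      exact inv_ne_zero hc0 hl.symm
    refine ⟨l • x, hx.smul l, smul_ne_zero hl0 hx0, Or.inl ?_⟩
    have h1 : l ^ p = c⁻¹ * l := by
      rw [← hl, ← pow_succ, Nat.sub_add_cancel hp.out.one_le]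
    rw [smul_pow, hxp, h1, smul_smul, one_smul]
    congr 1
    rw [mul_comm, ← mul_assoc, mul_inv_cancel₀ hc0, one_mul]

include p hp in
theorem exists_surjective (hA : ¬ IsReduced A) :
    (∃ f : A →ₐc[k] MonoidAlgebra k (Multiplicative (ZMod p)), Function.Surjective f) ∨
      (∃ f : A →ₐc[k] AlphaP.A p k, Function.Surjective f) := by
  obtain ⟨x, hx, hx0, h | h⟩ := exists_isDer_pow (k := k) p hA
  · left
    have := finite_mu p k
    obtain ⟨f, -, hf⟩ := exists_bialgHom p (finrank_mu p k) hx (isDer_tμ p k) (tμ_ne_zero p k) 1 h (tμ_pow_p p k)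
    exact ⟨f, hf hx0⟩
  · right
    obtain ⟨f, -, hf⟩ := exists_bialgHom p (AlphaP.finrank_eq p k) hx (isDer_tα p k) (tα_ne_zero p k) 0 h
      (tα_pow_p p k)
    exact ⟨f, hf hx0⟩

end Exists

end K503.MuAlpha
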