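import Groth.Agent.Hopf.K503.Conn
import Groth.Agent.Hopf.K503.HopfQuot
import Groth.Prelude.Def_CartDual2
import Mathlib.RingTheory.Unramified.Finite

/-!
# Lemmas on the largest connected multiplicative subgroup
-/

set_option autoImplicit false

open TensorProduct

namespace K503.MultPart

universe u v w

/-- An idempotent `f'` with `ε f' = 1` absorbs every idempotent `f` defining a local quotient with `ε f = 1`. -/
theorem mul_eq_of_local {S : Type v} [CommRing S] {T : Type u} [CommRing T] [Nontrivial T] (ε : S →+* T)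
    (f f' : S) (hf : IsIdempotentElem f) (hf' : IsIdempotentElem f') (h1 : ε f = 1) (h2 : ε f' = 1)
    [IsLocalRing (S ⧸ Ideal.span ({1 - f} : Set S))] : f * f' = f ∧ 1 - f' ∈ Ideal.span ({1 - f} : Set S) := by
  have hker : ∀ a ∈ Ideal.span ({1 - f} : Set S), ε a = 0 := by
    intro a ha
    obtain ⟨b, rfl⟩ := Ideal.mem_span_singleton.1 ha
    rw [map_mul, map_sub, map_one, h1, sub_self, zero_mul]
  have h3 : Ideal.Quotient.mk (Ideal.span ({1 - f} : Set S)) f' = 1 :=
    K503.Conn.idem_eq_one (hf'.map _) (Ideal.Quotient.lift _ ε hker) (by rw [Ideal.Quotient.lift_mk, h2])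
  have h4 : 1 - f' ∈ Ideal.span ({1 - f} : Set S) := by
    rw [← Ideal.Quotient.eq_zero_iff_mem, map_sub, map_one, h3, sub_self]
  refine ⟨?_, h4⟩
  obtain ⟨b, hb⟩ := Ideal.mem_span_singleton.1 h4
  have h5 : f * (1 - f') = 0 := by
    rw [hb, ← mul_assoc, mul_sub, mul_one, hf.eq, sub_self, zero_mul]
  linear_combination -h5


variable {R : Type u} [CommRing R]

/-- If `T : D → D'` is a bialgebra map and `f' * T f = f'`, then `T` maps `f`-invariant elements to
`f'`-invariant ones. -/
theorem invariant_map {D D' : Type v} [CommRing D] [Bialgebra R D] [CommRing D'] [Bialgebra R D']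
    (T : D →ₐc[R] D') (f : D) (f' : D') (hff : f' * T f = f')
    (x : D) (hx : LinearMap.lTensor D (LinearMap.mulLeft R f) (Coalgebra.comul (R := R) x) = x ⊗ₜ[R] f) :
    LinearMap.lTensor D' (LinearMap.mulLeft R f') (Coalgebra.comul (R := R) (T x)) = T x ⊗ₜ[R] f' := by
  have key : ∀ z : D ⊗[R] D,
      LinearMap.lTensor D' (LinearMap.mulLeft R f')
        (TensorProduct.map (T : D →ₗ[R] D') (T : D →ₗ[R] D') (LinearMap.lTensor D (LinearMap.mulLeft R f) z)) =
      LinearMap.lTensor D' (LinearMap.mulLeft R f') (TensorProduct.map (T : D →ₗ[R] D') (T : D →ₗ[R] D') z) := by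
    intro z
    induction z with
    | zero => simp
    | tmul a b =>
      simp only [LinearMap.lTensor_tmul, TensorProduct.map_tmul, LinearMap.mulLeft_apply]
      congr 1
      change f' * T (f * b) = f' * T b
      rw [map_mul, ← mul_assoc, hff]
    | add x y hx hy => simp only [map_add, hx, hy]
  have h1 := key (Coalgebra.comul (R := R) x)
  rw [hx] at h1
  have h2 : TensorProduct.map (T : D →ₗ[R] D') (T : D →ₗ[R] D') (Coalgebra.comul (R := R) x) =
    Coalgebra.comul (R := R) (T x) := CoalgHomClass.map_comp_comul_apply T x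
  rw [h2] at h1
  rw [← h1, TensorProduct.map_tmul, LinearMap.lTensor_tmul, LinearMap.mulLeft_apply]
  change T x ⊗ₜ[R] (f' * T f) = _
  rw [hff]

/-- Two maps from an unramified algebra to a local ring with a point which agree at the point are equal. -/
theorem algHom_eq_of_unramified {E : Type v} [CommRing E] [Algebra R E] [Algebra.EssFiniteType R E]
    [Algebra.FormallyUnramified R E] {S : Type w} [CommRing S] [Algebra R S] [IsLocalRing S] {T : Type u} [CommRing T]
    [Nontrivial T] [Algebra R T] (ε : S →ₐ[R] T) (f g : E →ₐ[R] S) (h : ε.comp f = ε.comp g) : f = g := by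
  obtain ⟨t, ht1, ht2⟩ := (Algebra.FormallyUnramified.iff_exists_tensorProduct (R := R) (S := E)).1 inferInstance
  let θ : E ⊗[R] E →ₐ[R] S := Algebra.TensorProduct.lift f g (fun _ _ => Commute.all _ _)
  have h1 : ε.comp θ = (ε.comp f).comp (Algebra.TensorProduct.lmul' R) := by
    apply Algebra.TensorProduct.ext'
    intro a b
    rw [AlgHom.comp_apply, AlgHom.comp_apply, Algebra.TensorProduct.lift_tmul, Algebra.TensorProduct.lmul'_apply_tmul,
      map_mul, map_mul]
    congr 1
    exact (AlgHom.congr_fun h b).symm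
  have h2 : ε (1 - θ t) = 0 := by
    have := AlgHom.congr_fun h1 t
    rw [AlgHom.comp_apply, AlgHom.comp_apply, ht2, map_one] at this
    rw [map_sub, map_one, this, sub_self]
  have h3 : IsUnit (θ t) := by
    rcases IsLocalRing.isUnit_or_isUnit_one_sub_self (θ t) with h | h
    · exact h
    · have h4 := h.map ε
      rw [h2] at h4
      exact absurd h4 not_isUnit_zero
  apply AlgHom.ext
  intro s
  have h4 := congrArg θ (ht1 s)
  rw [map_mul, map_sub, map_zero, Algebra.TensorProduct.lift_tmul, Algebra.TensorProduct.lift_tmul, map_one, map_one,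
    one_mul, mul_one] at h4
  exact (sub_eq_zero.1 ((h3.mul_left_eq_zero).1 h4)).symm

section Main

variable [Nontrivial R] {A : Type v} [CommRing A] [HopfAlgebra R A]

/-- A bialgebra map from `B` into a local quotient `A / KA` kills `1 - e` for `e` idempotent with `ε e = 1`. -/
theorem kill_of_local {B : Type w} [CommRing B] [HopfAlgebra R B] [IsLocalRing A] (ψ : B →ₐc[R] A)
    (e : B) (he : IsIdempotentElem e) (heε : Bialgebra.counitAlgHom R B e = 1) (b : B)
    (hb : b ∈ Ideal.span ({1 - e} : Set B)) : ψ b = 0 := by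
  have h1 : Bialgebra.counitAlgHom R A (ψ e) = 1 := (CoalgHomClass.counit_comp_apply ψ e).trans heε
  have h2 : ψ e = 1 := K503.Conn.idem_eq_one (he.map ψ) (Bialgebra.counitAlgHom R A : A →+* R) h1
  obtain ⟨c, rfl⟩ := Ideal.mem_span_singleton.1 hb
  rw [map_mul, map_sub, map_one, h2, sub_self, zero_mul]

/-- Functoriality of the largest connected multiplicative subgroup. -/
theorem apply_eq_zero {A B : Type v} [CommRing A] [HopfAlgebra R A] [CommRing B] [HopfAlgebra R B]
    (ψ : B →ₐc[R] A)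
    (KA : Ideal A) [KA.IsHopfIdeal R] [IsLocalRing (A ⧸ KA)] [Module.Finite R (A ⧸ KA)]
    [Module.Projective R (A ⧸ KA)] [Coalgebra.IsCocomm R (A ⧸ KA)]
    (fA : CartDual.D R (A ⧸ KA)) (hfA : IsIdempotentElem fA)
    (hfAε : Bialgebra.counitAlgHom R (CartDual.D R (A ⧸ KA)) fA = 1)
    (eB : B) (heB : IsIdempotentElem eB) (heBε : Bialgebra.counitAlgHom R B eB = 1)
    (KB : Ideal B) (hKB : KB = Ideal.span ({1 - eB} : Set B)) [KB.IsHopfIdeal R] [Module.Finite R (B ⧸ KB)]
    [Module.Projective R (B ⧸ KB)] [Coalgebra.IsCocomm R (B ⧸ KB)]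
    (fB : CartDual.D R (B ⧸ KB)) (hfB : IsIdempotentElem fB)
    (hfBε : Bialgebra.counitAlgHom R (CartDual.D R (B ⧸ KB)) fB = 1)
    [IsLocalRing (CartDual.D R (B ⧸ KB) ⧸ Ideal.span ({1 - fB} : Set (CartDual.D R (B ⧸ KB))))]
    (b : B) (hb : ∀ y : CartDual.D R (B ⧸ KB), LinearMap.lTensor (CartDual.D R (B ⧸ KB))
      (LinearMap.mulLeft R fB) (Coalgebra.comul (R := R) y) = y ⊗ₜ[R] fB → y (Ideal.Quotient.mk KB b) = 0)
    (x : CartDual.D R (A ⧸ KA)) (hx : LinearMap.lTensor (CartDual.D R (A ⧸ KA)) (LinearMap.mulLeft R fA)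
      (Coalgebra.comul (R := R) x) = x ⊗ₜ[R] fA) :
    x (Ideal.Quotient.mk KA (ψ b)) = 0 := by
  have hψ : ∀ b ∈ KB, ((Bialgebra.Quotient.mkBialgHom (R := R) KA).comp ψ) b = 0 := by
    intro b hb
    exact kill_of_local _ eB heB heBε b (hKB ▸ hb)
  let ψ₀ : (B ⧸ KB) →ₐc[R] (A ⧸ KA) := K503.HopfQuot.lift KB ((Bialgebra.Quotient.mkBialgHom (R := R) KA).comp ψ) hψ
  let T := CartDual.transpose R ψ₀
  have hTf : fB * T fA = fB := by
    refine (mul_eq_of_local (Bialgebra.counitAlgHom R (CartDual.D R (B ⧸ KB)) : _ →+* R) fB (T fA) hfB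
      (hfA.map T) hfBε ?_).1
    exact (CoalgHomClass.counit_comp_apply T fA).trans hfAε
  exact hb (T x) (invariant_map T fA fB hTf x hx)

/-- Maximality of the largest connected multiplicative subgroup. -/
theorem mem_of_forall {A : Type v} [CommRing A] [HopfAlgebra R A]
    (e : A) (he : IsIdempotentElem e) (hε : Bialgebra.counitAlgHom R A e = 1)
    (K : Ideal A) (hK : K = Ideal.span ({1 - e} : Set A)) [K.IsHopfIdeal R] [Module.Finite R (A ⧸ K)]
    [Module.Projective R (A ⧸ K)] [Coalgebra.IsCocomm R (A ⧸ K)]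
    (e' : CartDual.D R (A ⧸ K)) (he' : IsIdempotentElem e')
    (hε' : Bialgebra.counitAlgHom R (CartDual.D R (A ⧸ K)) e' = 1)
    [IsLocalRing (CartDual.D R (A ⧸ K) ⧸ Ideal.span ({1 - e'} : Set (CartDual.D R (A ⧸ K))))]
    (J : Ideal A) [J.IsHopfIdeal R] [IsLocalRing (A ⧸ J)] [Module.Finite R (A ⧸ J)] [Module.Projective R (A ⧸ J)]
    [Coalgebra.IsCocomm R (A ⧸ J)] [Algebra.FormallyUnramified R (CartDual.D R (A ⧸ J))]
    (a : A) (ha : ∀ x : CartDual.D R (A ⧸ K), LinearMap.lTensor (CartDual.D R (A ⧸ K)) (LinearMap.mulLeft R e')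
      (Coalgebra.comul (R := R) x) = x ⊗ₜ[R] e' → x (Ideal.Quotient.mk K a) = 0) :
    a ∈ J := by
  let π : (A ⧸ K) →ₐc[R] (A ⧸ J) := K503.HopfQuot.lift K (Bialgebra.Quotient.mkBialgHom (R := R) J)
    (fun b hb => kill_of_local _ e he hε b (hK ▸ hb))
  let T := CartDual.transpose R π
  set M := Ideal.span ({1 - e'} : Set (CartDual.D R (A ⧸ K))) with hM
  have hkerε : ∀ y ∈ M, Bialgebra.counitAlgHom R (CartDual.D R (A ⧸ K)) y = 0 := by
    intro y hy
    obtain ⟨c, rfl⟩ := Ideal.mem_span_singleton.1 hy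
    rw [map_mul, map_sub, map_one, hε', sub_self, zero_mul]
  let εM : (CartDual.D R (A ⧸ K) ⧸ M) →ₐ[R] R := Ideal.Quotient.liftₐ M (Bialgebra.counitAlgHom R _) hkerε
  have hT : (Ideal.Quotient.mkₐ R M).comp (T : CartDual.D R (A ⧸ J) →ₐ[R] CartDual.D R (A ⧸ K)) =
      (Algebra.ofId R _).comp (Bialgebra.counitAlgHom R (CartDual.D R (A ⧸ J))) := by
    refine algHom_eq_of_unramified (R := R) (E := CartDual.D R (A ⧸ J)) (S := CartDual.D R (A ⧸ K) ⧸ M) (T := R) εM _ _ ?_
    apply AlgHom.ext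
    intro z
    exact (CoalgHomClass.counit_comp_apply T z).trans (AlgHom.commutes εM _).symm
  have hT2 : ∀ z, e' * T z = Bialgebra.counitAlgHom R (CartDual.D R (A ⧸ J)) z • e' := by
    intro z
    have h1 := AlgHom.congr_fun hT z
    have h2 : T z - algebraMap R _ (Bialgebra.counitAlgHom R (CartDual.D R (A ⧸ J)) z) ∈ M := by
      rw [← Ideal.Quotient.eq_zero_iff_mem, map_sub, sub_eq_zero]
      exact h1
    obtain ⟨c, hc⟩ := Ideal.mem_span_singleton.1 h2
    have h3 : e' * (T z - algebraMap R _ (Bialgebra.counitAlgHom R (CartDual.D R (A ⧸ J)) z)) = 0 := by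
      rw [hc, ← mul_assoc, mul_sub, mul_one, he'.eq, sub_self, zero_mul]
    rw [mul_sub, sub_eq_zero] at h3
    rw [h3, Algebra.smul_def, mul_comm]
  have hinv : ∀ z, LinearMap.lTensor (CartDual.D R (A ⧸ K)) (LinearMap.mulLeft R e')
      (Coalgebra.comul (R := R) (T z)) = T z ⊗ₜ[R] e' := by
    intro z
    have key : ∀ w : CartDual.D R (A ⧸ J) ⊗[R] CartDual.D R (A ⧸ J),
        LinearMap.lTensor (CartDual.D R (A ⧸ K)) (LinearMap.mulLeft R e')
          (TensorProduct.map (T : CartDual.D R (A ⧸ J) →ₗ[R] CartDual.D R (A ⧸ K))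
            (T : CartDual.D R (A ⧸ J) →ₗ[R] CartDual.D R (A ⧸ K)) w) =
        T (TensorProduct.rid R _ (LinearMap.lTensor _ (Coalgebra.counit (R := R)) w)) ⊗ₜ[R] e' := by
      intro w
      induction w with
      | zero => simp
      | tmul a b =>
        simp only [LinearMap.lTensor_tmul, TensorProduct.map_tmul, LinearMap.mulLeft_apply, TensorProduct.rid_tmul]
        change T a ⊗ₜ[R] (e' * T b) = T (Bialgebra.counitAlgHom R (CartDual.D R (A ⧸ J)) b • a) ⊗ₜ[R] e'
        rw [hT2, map_smul, tmul_smul, smul_tmul']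
      | add x y hx hy => simp only [map_add, hx, hy, add_tmul]
    have h1 := key (Coalgebra.comul (R := R) z)
    rw [Coalgebra.lTensor_counit_comul, TensorProduct.rid_tmul, one_smul] at h1
    rw [← h1]
    congr 1
    exact (CoalgHomClass.map_comp_comul_apply T z).symm
  rw [← Ideal.Quotient.eq_zero_iff_mem]
  refine (Module.forall_dual_apply_eq_zero_iff R _).1 fun f => ?_
  exact ha (T (WithConv.toConv f)) (hinv _)

end Main

end K503.MultPart
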