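import Mathlib.RingTheory.HopfAlgebra.Basic
import Mathlib.RingTheory.HopfAlgebra.GroupLike
import Mathlib.RingTheory.Coalgebra.Convolution
import Mathlib.RingTheory.Bialgebra.Convolution
import Mathlib.RingTheory.LocalRing.Basic
import Mathlib.RingTheory.Nilpotent.Basic
import Mathlib.RingTheory.Artinian.Ring
import Mathlib.RingTheory.Nakayama
import Mathlib.LinearAlgebra.FiniteDimensional.Lemmas
import Mathlib.LinearAlgebra.Dual.Lemmas
import Mathlib.LinearAlgebra.Contraction
import Mathlib.LinearAlgebra.LinearIndependent.Basic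
import Mathlib.Algebra.CharP.Lemmas
import Mathlib.FieldTheory.Minpoly.Field
import Mathlib.LinearAlgebra.Basis.VectorSpace
import Mathlib.RingTheory.PowerBasis

/-!
# Primitive elements: existence and powers
-/

set_option autoImplicit false

open TensorProduct

namespace K503.Prim

universe u v w

section Defs

/-- Primitive elements. -/
def IsPrim (R : Type u) {A : Type v} [CommRing R] [Ring A] [Bialgebra R A] (x : A) : Prop :=
  Coalgebra.comul (R := R) x = x ⊗ₜ[R] (1 : A) + (1 : A) ⊗ₜ[R] x

variable {R : Type u} {A : Type v} [CommRing R] [CommRing A] [Bialgebra R A]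

theorem IsPrim.counit {x : A} (h : IsPrim R x) : Coalgebra.counit (R := R) x = 0 := by
  have h1 := Coalgebra.rTensor_counit_comul (R := R) x
  rw [h, map_add, LinearMap.rTensor_tmul, LinearMap.rTensor_tmul, Bialgebra.counit_one] at h1
  have h2 : Coalgebra.counit (R := R) x ⊗ₜ[R] (1 : A) = 0 := add_eq_right.1 h1
  have h3 := congrArg (TensorProduct.lid R A) h2
  rw [TensorProduct.lid_tmul, map_zero] at h3
  have h4 := congrArg (Coalgebra.counit (R := R)) h3
  rwa [map_smul, Bialgebra.counit_one, map_zero, smul_eq_mul, mul_one] at h4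

theorem IsPrim.pow_char {x : A} (h : IsPrim R x) (p : ℕ) [Fact p.Prime] [CharP R p] : IsPrim R (x ^ p) := by
  have hc : ((p : ℕ) : A ⊗[R] A) = 0 := by
    rw [← map_natCast (algebraMap R (A ⊗[R] A)), CharP.cast_eq_zero, map_zero]
  rw [IsPrim, Bialgebra.comul_pow, h]
  obtain ⟨r, hr⟩ := (Commute.all (x ⊗ₜ[R] (1 : A)) ((1 : A) ⊗ₜ[R] x)).exists_add_pow_prime_eq (Fact.out : p.Prime)
  rw [hr, hc, Algebra.TensorProduct.tmul_pow, Algebra.TensorProduct.tmul_pow, one_pow]
  simp

theorem IsPrim.pow_char_pow {x : A} (h : IsPrim R x) (p : ℕ) [Fact p.Prime] [CharP R p] (n : ℕ) :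
    IsPrim R (x ^ p ^ n) := by
  induction n with
  | zero => simpa using h
  | succ n ih => rw [pow_succ, pow_mul]; exact ih.pow_char p

end Defs

section Field

variable {k : Type u} [Field k]

/-- Prescribing a linear functional on a linearly independent family. -/
theorem exists_functional {V : Type v} [AddCommGroup V] [Module k V] {ι : Type w} {b : ι → V}
    (hb : LinearIndependent k b) (c : ι → k) : ∃ f : V →ₗ[k] k, ∀ i, f (b i) = c i := by
  let f₀ : Submodule.span k (Set.range b) →ₗ[k] k := Finsupp.linearCombination k c ∘ₗ hb.repr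
  obtain ⟨f, hf⟩ := LinearMap.exists_extend f₀
  refine ⟨f, fun i => ?_⟩
  have h1 := LinearMap.congr_fun hf ⟨b i, Submodule.subset_span ⟨i, rfl⟩⟩
  rw [LinearMap.comp_apply, Submodule.subtype_apply] at h1
  rw [h1]
  simp only [f₀, LinearMap.comp_apply]
  change Finsupp.linearCombination k c (hb.repr _) = c i
  rw [hb.repr_eq_single i ⟨b i, _⟩ rfl, Finsupp.linearCombination_single, one_smul]

/-- Powers of a nilpotent element of exact order `m` are linearly independent. -/
theorem linearIndependent_pow_of_nilpotent {A : Type v} [CommRing A] [Algebra k A] (x : A) (m : ℕ)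
    (h0 : x ^ m = 0) (h1 : ∀ i < m, x ^ i ≠ 0) : LinearIndependent k (fun i : Fin m => x ^ (i : ℕ)) := by
  rcases Nat.eq_zero_or_pos m with hm | hm
  · subst hm
    exact linearIndependent_empty_type
  have hint : IsIntegral k x := by
    refine ⟨Polynomial.X ^ m, Polynomial.monic_X_pow m, ?_⟩
    simp [h0]
  have hdvd : minpoly k x ∣ Polynomial.X ^ m := minpoly.dvd k x (by simp [h0])
  obtain ⟨i, him, hi⟩ := (dvd_prime_pow Polynomial.prime_X m).1 hdvd
  have hmono := minpoly.monic hint
  have heq : minpoly k x = Polynomial.X ^ i :=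
    Polynomial.eq_of_monic_of_associated hmono (Polynomial.monic_X_pow i) hi
  have hxi : x ^ i = 0 := by
    have := minpoly.aeval k x
    rw [heq] at this
    simpa using this
  have him' : i = m := by
    by_contra hne
    exact h1 i (lt_of_le_of_ne him hne) hxi
  subst him'
  have h2 := linearIndependent_pow (K := k) x
  have h3 : (minpoly k x).natDegree = i := by rw [heq, Polynomial.natDegree_X_pow]
  rw [h3] at h2
  exact h2

/-- In characteristic `p` the powers `1, x, …, x^(p-1)` of a nonzero primitive element with `x ^ p = 0` are linearly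
independent. -/
theorem linearIndependent_pow_of_prim {A : Type v} [CommRing A] [Bialgebra k A] (p : ℕ) [hp : Fact p.Prime]
    [CharP k p] (x : A) (hx : IsPrim k x) (hx0 : x ≠ 0) (hxp : x ^ p = 0) :
    LinearIndependent k (fun i : Fin p => x ^ (i : ℕ)) := by
  classical
  have hex : ∃ m, x ^ m = 0 := ⟨p, hxp⟩
  let m := Nat.find hex
  have hm0 : x ^ m = 0 := Nat.find_spec hex
  have hmin : ∀ i < m, x ^ i ≠ 0 := fun i hi => Nat.find_min hex hi
  have hli := linearIndependent_pow_of_nilpotent (k := k) x m hm0 hmin
  have hmp : m ≤ p := Nat.find_min' hex hxp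
  have hm1 : m ≠ 0 := by
    intro h
    rw [h, pow_zero] at hm0
    have : Subsingleton A := subsingleton_of_zero_eq_one hm0.symm
    exact hx0 (Subsingleton.elim _ _)
  have hm2 : m ≠ 1 := by
    intro h
    rw [h, pow_one] at hm0
    exact hx0 hm0
  have hmp' : m = p := by
    by_contra hne
    have hlt : m < p := lt_of_le_of_ne hmp hne
    obtain ⟨f, hf⟩ := exists_functional hli (fun i => if (i : ℕ) = 1 then 1 else 0)
    obtain ⟨g, hg⟩ := exists_functional hli (fun i => if (i : ℕ) = m - 1 then 1 else 0)
    have h1 := congrArg (LinearMap.mul' k k ∘ₗ TensorProduct.map f g) (congrArg (Coalgebra.comul (R := k)) hm0)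
    rw [map_zero, map_zero, Bialgebra.comul_pow, hx, (Commute.all _ _).add_pow, map_sum,
      Finset.sum_eq_single 1] at h1
    · rw [Algebra.TensorProduct.tmul_pow, Algebra.TensorProduct.tmul_pow, Algebra.TensorProduct.tmul_mul_tmul,
        one_pow, one_pow, one_mul, mul_one, mul_comm, ← nsmul_eq_mul, map_nsmul, LinearMap.comp_apply,
        TensorProduct.map_tmul, LinearMap.mul'_apply, Nat.choose_one_right, nsmul_eq_mul] at h1
      have h2 := hf ⟨1, by omega⟩
      have h3 := hg ⟨m - 1, by omega⟩
      simp only [if_true] at h2 h3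
      rw [h2, h3, mul_one, mul_one] at h1
      rw [CharP.cast_eq_zero_iff k p] at h1
      exact absurd (Nat.le_of_dvd (by omega) h1) (by omega)
    · intro i hi hne1
      have hi' : i ≤ m := Nat.lt_succ_iff.1 (Finset.mem_range.1 hi)
      rw [Algebra.TensorProduct.tmul_pow, Algebra.TensorProduct.tmul_pow, Algebra.TensorProduct.tmul_mul_tmul,
        one_pow, one_pow, one_mul, mul_one, mul_comm, ← nsmul_eq_mul, map_nsmul, LinearMap.comp_apply,
        TensorProduct.map_tmul, LinearMap.mul'_apply]
      by_cases him : i = m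
      · rw [him, hm0, map_zero, zero_mul, smul_zero]
      · have h2 := hf ⟨i, by omega⟩
        simp only at h2
        rw [h2, if_neg hne1, zero_mul, smul_zero]
    · intro h
      exact absurd (Finset.mem_range.2 (by omega)) h
  rw [hmp'] at hli
  exact hli

/-- Pure tensors of functionals separate the elements of a tensor product of finite-dimensional spaces. -/
theorem eq_zero_of_forall_map {V : Type v} {W : Type w} [AddCommGroup V] [Module k V] [AddCommGroup W] [Module k W]
    [Module.Finite k V] [Module.Finite k W] (z : V ⊗[k] W)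
    (h : ∀ (f : V →ₗ[k] k) (g : W →ₗ[k] k), LinearMap.mul' k k (TensorProduct.map f g z) = 0) : z = 0 := by
  refine (Module.forall_dual_apply_eq_zero_iff k z).1 fun φ => ?_
  obtain ⟨w, rfl⟩ := (TensorProduct.dualDistribEquiv k V W).surjective φ
  induction w with
  | zero => simp
  | tmul f g =>
    refine Eq.trans ?_ (h f g)
    rfl
  | add x y hx hy => rw [map_add, LinearMap.add_apply, hx, hy, add_zero]

/-- A finite-dimensional cocommutative bialgebra of dimension at least two whose dual algebra is local has a
nonzero primitive element. -/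
theorem exists_prim_ne_zero {A : Type v} [CommRing A] [Bialgebra k A] [Coalgebra.IsCocomm k A] [Module.Finite k A]
    (hdual : IsLocalRing (WithConv (A →ₗ[k] k))) (hA : 1 < Module.finrank k A) :
    ∃ x : A, IsPrim k x ∧ x ≠ 0 := by
  let D := WithConv (A →ₗ[k] k)
  let η : D →ₗ[k] k := LinearMap.applyₗ (1 : A) ∘ₗ (WithConv.linearEquiv k (A →ₗ[k] k)).toLinearMap
  have hη : ∀ f : D, η f = f 1 := fun f => rfl
  have hfinD : Module.Finite k D := Module.Finite.equiv (WithConv.linearEquiv k (A →ₗ[k] k)).symm
  have hnoeth : IsNoetherianRing D := isNoetherian_of_tower k inferInstance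
  have hone : ∀ a : A, (1 : D) a = Coalgebra.counit (R := k) a := fun a => by simp
  have hmul1 : ∀ f g : D, (f * g) 1 = f 1 * g 1 := by
    intro f g
    rw [LinearMap.convMul_apply, Bialgebra.comul_one, Algebra.TensorProduct.one_def, TensorProduct.map_tmul,
      LinearMap.mul'_apply]
  -- the augmentation ideal of the dual
  let M : Ideal D := RingHom.ker ({ toFun := fun f => f 1
                                    map_one' := by simp
                                    map_mul' := hmul1
                                    map_zero' := rfl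
                                    map_add' := fun _ _ => rfl } : D →+* k)
  have hM : ∀ f : D, f ∈ M ↔ f 1 = 0 := fun f => Iff.rfl
  have hMne : M ≠ ⊤ := RingHom.ker_ne_top _
  -- the subspace spanned by the unit and the square
  let W : Submodule k D := Submodule.span k {1} ⊔ (M ^ 2).restrictScalars k
  have hW : W ≠ ⊤ := by
    intro h
    have h1 : M ≤ M ^ 2 := by
      intro f hf
      have h2 : f ∈ W := h ▸ Submodule.mem_top
      obtain ⟨a, ha, b, hb, hab⟩ := Submodule.mem_sup.1 h2
      obtain ⟨c, rfl⟩ := Submodule.mem_span_singleton.1 ha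
      have hb' : b ∈ M ^ 2 := hb
      have h3 : b 1 = 0 := (hM b).1 (Ideal.pow_le_self two_ne_zero hb')
      have h4 : (c • (1 : D) + b) 1 = 0 := by rw [hab]; exact (hM f).1 hf
      have h5 : (c • (1 : D) + b) 1 = c := by
        change c * (1 : D) 1 + b 1 = c
        rw [h3, hone, Bialgebra.counit_one, mul_one, add_zero]
      rw [h5] at h4
      rw [← hab, h4, zero_smul, zero_add]
      exact hb'
    have h2 : M = ⊥ := by
      refine Submodule.eq_bot_of_le_smul_of_le_jacobson_bot M M (IsNoetherian.noetherian _) ?_ ?_
      · rw [smul_eq_mul, ← pow_two]; exact h1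
      · rw [IsLocalRing.jacobson_eq_maximalIdeal _ bot_ne_top]
        exact IsLocalRing.le_maximalIdeal hMne
    have h3 : Function.Injective η := by
      rw [← LinearMap.ker_eq_bot, LinearMap.ker_eq_bot']
      intro f hf
      have : f ∈ M := hf
      rw [h2] at this
      exact this
    have h4 := LinearMap.finrank_le_finrank_of_injective h3
    rw [Module.finrank_self, (WithConv.linearEquiv k (A →ₗ[k] k)).finrank_eq,
      show Module.finrank k (A →ₗ[k] k) = Module.finrank k A from Subspace.dual_finrank_eq] at h4
    omega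
  -- an element of A orthogonal to W
  obtain ⟨φ, hφ0, hφW⟩ := Submodule.exists_le_ker_of_lt_top W (lt_top_iff_ne_top.2 hW)
  let φ' : Module.Dual k (Module.Dual k A) := φ ∘ₗ (WithConv.linearEquiv k (A →ₗ[k] k)).symm.toLinearMap
  obtain ⟨x, hx⟩ := (Module.evalEquiv k A).surjective φ'
  have hxφ : ∀ f : D, φ f = f x := by
    intro f
    have := LinearMap.congr_fun hx f.ofConv
    exact this.symm
  refine ⟨x, ?_, ?_⟩
  · -- primitivity
    have hx1 : Coalgebra.counit (R := k) x = 0 := by
      rw [← hone, ← hxφ]
      exact hφW (Submodule.mem_sup_left (Submodule.mem_span_singleton_self _))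
    have hx2 : ∀ f g : D, f 1 = 0 → g 1 = 0 → (f * g) x = 0 := by
      intro f g hf hg
      rw [← hxφ]
      refine hφW (Submodule.mem_sup_right ?_)
      change f * g ∈ M ^ 2
      rw [pow_two]
      exact Ideal.mul_mem_mul hf hg
    have key : ∀ f g : D, (f * g) x = f x * g 1 + f 1 * g x := by
      intro f g
      have h1 := hx2 (f - f 1 • 1) (g - g 1 • 1) (by
          change f 1 - f 1 * (1 : D) 1 = 0
          rw [hone, Bialgebra.counit_one, mul_one, sub_self]) (by
          change g 1 - g 1 * (1 : D) 1 = 0
          rw [hone, Bialgebra.counit_one, mul_one, sub_self])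
      have h2 : (f - f 1 • 1) * (g - g 1 • 1) = f * g - g 1 • f - f 1 • g + (f 1 * g 1) • (1 : D) := by
        simp only [mul_sub, sub_mul, smul_mul_assoc, mul_smul_comm, one_mul, mul_one]
        rw [smul_sub, smul_smul, mul_comm (g 1) (f 1)]
        abel
      rw [h2] at h1
      change (f * g) x - g 1 * f x - f 1 * g x + (f 1 * g 1) * (1 : D) x = 0 at h1
      rw [hone, hx1] at h1
      linear_combination h1
    -- separate by functionals
    rw [IsPrim, ← sub_eq_zero]
    apply eq_zero_of_forall_map
    intro f g
    have h1 := key (WithConv.toConv f) (WithConv.toConv g)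
    rw [LinearMap.convMul_apply] at h1
    rw [map_sub, map_sub, map_add, map_add, TensorProduct.map_tmul, TensorProduct.map_tmul, LinearMap.mul'_apply,
      LinearMap.mul'_apply, sub_eq_zero]
    exact h1
  · intro h0
    apply hφ0
    ext f
    rw [hxφ, h0]
    simp

end Field

end K503.Prim
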