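import Mathlib.RingTheory.LocalRing.Module
import Mathlib.RingTheory.Flat.FaithfullyFlat.Basic
import Mathlib.RingTheory.TensorProduct.Basic
import Mathlib.RingTheory.TensorProduct.Free
import Mathlib.LinearAlgebra.TensorProduct.Tower
import Mathlib.LinearAlgebra.Dimension.Constructions
import Mathlib.LinearAlgebra.Dimension.FreeAndStrongRankCondition

/-!
# Freeness over a semilocal ring from a Galois isomorphism
-/

set_option autoImplicit false

open TensorProduct

namespace K503.RankFree

universe u v w x

/-- If `A` is finite faithfully flat over the semilocal ring `C` and `A ⊗_C A ≅ A ⊗_k H` as `A`-modules then `A` is free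
over `C` of rank `dim_k H`. -/
theorem nonempty_basis {k : Type u} {C : Type v} {A : Type w} {H : Type x} [Field k] [CommRing C] [CommRing A]
    [Algebra k C] [Algebra k A] [Algebra C A] [IsScalarTower k C A] [AddCommGroup H] [Module k H]
    [Finite (MaximalSpectrum C)] [Module.Finite C A] [Module.FaithfullyFlat C A]
    (e : A ⊗[C] A ≃ₗ[A] A ⊗[k] H) : Nonempty (Module.Basis (Fin (Module.finrank k H)) C A) := by
  apply Module.nonempty_basis_of_flat_of_finrank_eq
  intro P
  let K := C ⧸ P.1
  let : Field K := Ideal.Quotient.field P.1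
  let V := K ⊗[C] A
  have hV : Nontrivial V := inferInstance
  let : Algebra A V := Algebra.TensorProduct.rightAlgebra
  have hst : IsScalarTower C A V := inferInstance
  have hst2 : IsScalarTower k A V := by
    refine IsScalarTower.of_algebraMap_eq' (RingHom.ext fun a => ?_)
    change (algebraMap k K a) ⊗ₜ[C] (1 : A) = (1 : K) ⊗ₜ[C] (algebraMap k A a)
    rw [IsScalarTower.algebraMap_apply k C A, IsScalarTower.algebraMap_apply k C K,
      Algebra.algebraMap_eq_smul_one (algebraMap k C a), TensorProduct.smul_tmul, ← Algebra.algebraMap_eq_smul_one]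
  let e1 : V ⊗[K] (K ⊗[C] A) ≃ₗ[V] V ⊗[C] A := AlgebraTensorModule.cancelBaseChange C K V V A
  let e2 : V ⊗[A] (A ⊗[C] A) ≃ₗ[V] V ⊗[C] A := AlgebraTensorModule.cancelBaseChange C A V V A
  let e3 : V ⊗[A] (A ⊗[C] A) ≃ₗ[V] V ⊗[A] (A ⊗[k] H) := AlgebraTensorModule.congr (LinearEquiv.refl V V) e
  let e4 : V ⊗[A] (A ⊗[k] H) ≃ₗ[V] V ⊗[k] H := AlgebraTensorModule.cancelBaseChange k A V V H
  have h1 := (e1.trans (e2.symm.trans (e3.trans e4))).finrank_eq
  have h2 : Module.finrank V (V ⊗[K] (K ⊗[C] A)) = Module.finrank K (K ⊗[C] A) := Module.finrank_baseChange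
  have h3 : Module.finrank V (V ⊗[k] H) = Module.finrank k H := Module.finrank_baseChange
  rw [h2, h3] at h1
  exact h1

end K503.RankFree
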