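import Groth.Agent.Hopf.K503.ActGrpd
import Groth.Agent.Hopf.K503.ActFinite
import Groth.Agent.Hopf.K503.RankFree
import Mathlib.RingTheory.Bialgebra.Hom
import Mathlib.RingTheory.RingHom.FaithfullyFlat
import Mathlib.RingTheory.Artinian.Ring

/-!
# The coaction of a quotient Hopf algebra by right translations is a Galois extension
-/

set_option autoImplicit false
universe u v w

open TensorProduct Groth.Agent.Grpsch.AffGrpd K503.ActGrpd

namespace K503.QuotCoact

section Coact

variable {k : Type u} [CommRing k] {A : Type v} [CommRing A] [HopfAlgebra k A] {H : Type w} [CommRing H]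
  [HopfAlgebra k H] (π : A →ₐc[k] H)

/-- `π` as an algebra homomorphism -/
noncomputable abbrev πa : A →ₐ[k] H := (π : A →ₐ[k] H)

theorem assoc_map (z : A ⊗[k] A) :
    Algebra.TensorProduct.assoc k k k A H H (Algebra.TensorProduct.map
      ((Algebra.TensorProduct.map (AlgHom.id k A) (πa π)).comp (Bialgebra.comulAlgHom k A)) (AlgHom.id k H)
        (Algebra.TensorProduct.map (AlgHom.id k A) (πa π) z)) =
    Algebra.TensorProduct.map (AlgHom.id k A) (Algebra.TensorProduct.map (πa π) (πa π))
      (Algebra.TensorProduct.assoc k k k A A A (Algebra.TensorProduct.map (Bialgebra.comulAlgHom k A) (AlgHom.id k A) z)) := by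
  induction z with
  | zero => simp only [map_zero]
  | add x y hx hy => simp only [map_add, hx, hy]
  | tmul x y =>
    rw [Algebra.TensorProduct.map_tmul, Algebra.TensorProduct.map_tmul, Algebra.TensorProduct.map_tmul,
      AlgHom.comp_apply, AlgHom.id_apply, AlgHom.id_apply, AlgHom.id_apply]
    induction Bialgebra.comulAlgHom k A x with
    | zero => simp only [map_zero, TensorProduct.zero_tmul]
    | add s t hs ht => simp only [map_add, TensorProduct.add_tmul, hs, ht]
    | tmul s t =>
      rw [Algebra.TensorProduct.map_tmul, Algebra.TensorProduct.assoc_tmul, Algebra.TensorProduct.assoc_tmul,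
        Algebra.TensorProduct.map_tmul, Algebra.TensorProduct.map_tmul]

theorem map_comul (a : A) : Bialgebra.comulAlgHom k H (πa π a) =
    Algebra.TensorProduct.map (πa π) (πa π) (Bialgebra.comulAlgHom k A a) :=
  (CoalgHomClass.map_comp_comul_apply π a).symm

theorem counit_map (a : A) : Bialgebra.counitAlgHom k H (πa π a) = Bialgebra.counitAlgHom k A a :=
  CoalgHomClass.counit_comp_apply π a

/-- The coaction by right translations. -/
noncomputable def coact : Coaction k H A where
  ρ := (Algebra.TensorProduct.map (AlgHom.id k A) (πa π)).comp (Bialgebra.comulAlgHom k A)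
  coassoc a := by
    rw [AlgHom.comp_apply, assoc_map]
    have h1 : Algebra.TensorProduct.assoc k k k A A A (Algebra.TensorProduct.map (Bialgebra.comulAlgHom k A)
        (AlgHom.id k A) (Bialgebra.comulAlgHom k A a)) =
        Algebra.TensorProduct.map (AlgHom.id k A) (Bialgebra.comulAlgHom k A) (Bialgebra.comulAlgHom k A a) :=
      Coalgebra.coassoc_apply a
    rw [h1]
    generalize Bialgebra.comulAlgHom k A a = z
    induction z with
    | zero => simp only [map_zero]
    | add x y hx hy => simp only [map_add, hx, hy]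
    | tmul x y =>
      rw [Algebra.TensorProduct.map_tmul, Algebra.TensorProduct.map_tmul, Algebra.TensorProduct.map_tmul,
        Algebra.TensorProduct.map_tmul, map_comul, AlgHom.id_apply, AlgHom.id_apply]
  counit a := by
    rw [AlgHom.comp_apply]
    have h1 : Algebra.TensorProduct.map (AlgHom.id k A) (Bialgebra.counitAlgHom k A) (Bialgebra.comulAlgHom k A a) =
      a ⊗ₜ[k] (1 : k) := Coalgebra.lTensor_counit_comul a
    rw [← h1]
    generalize Bialgebra.comulAlgHom k A a = z
    induction z with
    | zero => simp only [map_zero]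
    | add x y hx hy => simp only [map_add, hx, hy]
    | tmul x y =>
      rw [Algebra.TensorProduct.map_tmul, Algebra.TensorProduct.map_tmul, Algebra.TensorProduct.map_tmul,
        counit_map]
      rfl

theorem coact_ρ (a : A) : (coact π).ρ a = Algebra.TensorProduct.map (AlgHom.id k A) (πa π) (Bialgebra.comulAlgHom k A a) := rfl

theorem act_eq {T : Type*} [CommRing T] (x : A →+* T) (g : H →+* T)
    (h : x.comp (algebraMap k A) = g.comp (algebraMap k H)) :
    (coact π).act x g h = cmul x (g.comp (πa π).toRingHom) (by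
      rw [h]; ext a
      change g (algebraMap k H a) = g (πa π (algebraMap k A a))
      rw [AlgHom.commutes]) := by
  ext a
  change lift2 x g h (Algebra.TensorProduct.map (AlgHom.id k A) (πa π) (Bialgebra.comulAlgHom k A a)) =
    lift2 x (g.comp (πa π).toRingHom) _ (Bialgebra.comulAlgHom k A a)
  generalize Bialgebra.comulAlgHom k A a = z
  induction z with
  | zero => simp only [map_zero]
  | add x y hx hy => simp only [map_add, hx, hy]
  | tmul x y =>
    rw [Algebra.TensorProduct.map_tmul, lift2_tmul, lift2_tmul]
    rfl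

theorem cmul_cancel {T : Type*} [CommRing T] (x g g' : A →+* T) (h : x.comp (algebraMap k A) = g.comp (algebraMap k A))
    (h' : x.comp (algebraMap k A) = g'.comp (algebraMap k A)) (he : cmul x g h = cmul x g' h') : g = g' := by
  have h1 : cmul (cinv k x) (cmul x g h) (by rw [cinv_algebraMap, cmul_algebraMap]) =
      cmul (cinv k x) (cmul x g' h') (by rw [cinv_algebraMap, cmul_algebraMap]) := cmul_congr rfl he _
  have key : ∀ (g : A →+* T) (h : x.comp (algebraMap k A) = g.comp (algebraMap k A)),
      cmul (cinv k x) (cmul x g h) (by rw [cinv_algebraMap, cmul_algebraMap]) = g := by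
    intro g h
    rw [← cmul_assoc _ _ _ (cinv_algebraMap x) h, cmul_congr (cinv_cmul x) rfl,
      cmul_congr (triv_congr h) rfl, triv_cmul]
  rw [key g h, key g' h'] at h1
  exact h1

theorem jepi (hπ : Function.Surjective π) : (coact π).grpd.JEpi := by
  intro T _ α β hs ht
  have h1 : pL α = pL β := comp_up_injective hs
  apply pair_ext h1
  have h2 : (coact π).act (pL α) (pR α) (pLR α) = (coact π).act (pL β) (pR β) (pLR β) := by
    have := (comp_tgt (coact π) α).symm.trans (ht.trans (comp_tgt (coact π) β))
    exact comp_up_injective this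
  rw [act_eq, act_eq, cmul_congr h1 rfl] at h2
  have h3 := cmul_cancel _ _ _ _ _ h2
  ext b
  obtain ⟨a, rfl⟩ := hπ b
  exact RingHom.congr_fun h3 a

end Coact

section Galois

variable {k : Type u} [Field k] {A : Type v} [CommRing A] [HopfAlgebra k A] {H : Type w} [CommRing H]
  [HopfAlgebra k H] (π : A →ₐc[k] H)

/-- the invariants -/
noncomputable abbrev B : Subalgebra k A := (coact π).inv

theorem mem_B (a : A) : a ∈ B π ↔
    Algebra.TensorProduct.map (AlgHom.id k A) (πa π) (Bialgebra.comulAlgHom k A a) = a ⊗ₜ 1 := Iff.rfl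

/-- coaction as a map over the invariants -/
noncomputable def ρB : A →ₐ[B π] A ⊗[k] H :=
  { (coact π).ρ with
    commutes' := fun b => by
      change (coact π).ρ (b : A) = (b : A) ⊗ₜ 1
      exact b.2 }

/-- The Galois map. -/
noncomputable def can : A ⊗[B π] A →ₐ[A] A ⊗[k] H :=
  Algebra.TensorProduct.lift (Algebra.ofId A (A ⊗[k] H)) (ρB π) (fun _ _ => Commute.all _ _)

theorem can_tmul (a b : A) : can π (a ⊗ₜ b) = (a ⊗ₜ 1) * (coact π).ρ b := by
  rw [can, Algebra.TensorProduct.lift_tmul]; rfl

/-- The two inclusions agree on the invariants. -/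
theorem incl_cond :
    (((ULift.ringEquiv : ULift.{w} (A ⊗[B π] A) ≃+* (A ⊗[B π] A)).symm.toRingHom.comp
      (Algebra.TensorProduct.includeRight : A →ₐ[B π] A ⊗[B π] A).toRingHom).comp
      (ULift.ringEquiv : ULift.{w} A ≃+* A).toRingHom).comp (coact π).γ =
    (((ULift.ringEquiv : ULift.{w} (A ⊗[B π] A) ≃+* (A ⊗[B π] A)).symm.toRingHom.comp
      (Algebra.TensorProduct.includeLeft : A →ₐ[B π] A ⊗[B π] A).toRingHom).comp
      (ULift.ringEquiv : ULift.{w} A ≃+* A).toRingHom).comp (coact π).γ := by
  refine RingHom.ext fun b => ?_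
  apply ULift.down_injective
  change (1 : A) ⊗ₜ[B π] (b.down : A) = (b.down : A) ⊗ₜ[B π] (1 : A)
  have : (b.down : A) = b.down • (1 : A) := by rw [Algebra.smul_def, mul_one]; rfl
  rw [this, TensorProduct.smul_tmul]

/-- comparison of the two tensor products -/
noncomputable def θ : POut (coact π).γ (coact π).γ →+* A ⊗[B π] A :=
  (ULift.ringEquiv : ULift.{w} (A ⊗[B π] A) ≃+* (A ⊗[B π] A)).toRingHom.comp
  (POut.desc _ _ (incl_cond π))

theorem θ_inl (a : A) : θ π (POut.inl _ _ (ULift.up a)) = (1 : A) ⊗ₜ[B π] a := by
  rw [θ, RingHom.comp_apply, POut.desc_inl]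
  rfl

theorem θ_inr (a : A) : θ π (POut.inr _ _ (ULift.up a)) = a ⊗ₜ[B π] (1 : A) := by
  rw [θ, RingHom.comp_apply, POut.desc_inr]
  rfl

theorem θ_surjective : Function.Surjective (θ π) := by
  intro z
  induction z with
  | zero => exact ⟨0, map_zero _⟩
  | add x y hx hy =>
    obtain ⟨x, rfl⟩ := hx
    obtain ⟨y, rfl⟩ := hy
    exact ⟨x + y, map_add _ _ _⟩
  | tmul a b =>
    refine ⟨POut.inl _ _ (ULift.up b) * POut.inr _ _ (ULift.up a), ?_⟩
    rw [map_mul, θ_inl, θ_inr, Algebra.TensorProduct.tmul_mul_tmul, one_mul, mul_one]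

theorem can_θ (z : POut (coact π).γ (coact π).γ) : can π (θ π z) = (coact π).isQuot.jmap z := by
  induction z using POut.induction with
  | zero => simp only [map_zero]
  | add z w hz hw => simp only [map_add, hz, hw]
  | mul x y =>
    rw [map_mul, map_mul, map_mul, (coact π).isQuot.jmap_inl, (coact π).isQuot.jmap_inr]
    have h1 : can π (θ π (POut.inl _ _ x)) = (coact π).grpd.t x := by
      rw [← ULift.up_down x, θ_inl, can_tmul]
      exact one_mul _
    have h2 : can π (θ π (POut.inr _ _ y)) = (coact π).grpd.s y := by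
      rw [← ULift.up_down y, θ_inr, can_tmul, map_one, mul_one]
      rfl
    rw [h1, h2]

variable [Module.Finite k H]

theorem can_bijective (hπ : Function.Surjective π) : Function.Bijective (can π) := by
  let e := (coact π).isQuot.jequiv (jepi π hπ) (srcDB (Module.finBasis k H))
  constructor
  · rw [injective_iff_map_eq_zero]
    intro z hz
    obtain ⟨w, rfl⟩ := θ_surjective π z
    rw [can_θ] at hz
    have h1 : w = 0 := (coact π).isQuot.jmap_injective (jepi π hπ) (srcDB (Module.finBasis k H)) (by
      rw [hz, map_zero])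
    rw [h1, map_zero]
  · intro z
    obtain ⟨w, hw⟩ := (coact π).isQuot.jmap_surjective (jepi π hπ) (srcDB (Module.finBasis k H)) z
    exact ⟨θ π w, by rw [can_θ, hw]⟩

theorem ff_comp {X Y Z : Type*} [CommRing X] [CommRing Y] [CommRing Z] {f : X →+* Y} {g : Y →+* Z}
    (hf : f.FaithfullyFlat) (hg : g.FaithfullyFlat) : (g.comp f).FaithfullyFlat := by
  let := f.toAlgebra
  let := g.toAlgebra
  let := (g.comp f).toAlgebra
  have : IsScalarTower X Y Z := IsScalarTower.of_algebraMap_eq' rfl
  have h1 : Module.FaithfullyFlat X Y := hf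
  have h2 : Module.FaithfullyFlat Y Z := hg
  exact Module.FaithfullyFlat.trans X Y Z

theorem faithfullyFlat (hπ : Function.Surjective π) : Module.FaithfullyFlat (B π) A := by
  have h1 := (coact π).isQuot.faithfullyFlat (jepi π hπ) (srcDB (Module.finBasis k H))
  have h2 : (ULift.ringEquiv : ULift.{w} A ≃+* A).toRingHom.FaithfullyFlat :=
    RingHom.FaithfullyFlat.of_bijective (ULift.ringEquiv : ULift.{w} A ≃+* A).bijective
  have h3 : (ULift.ringEquiv : ULift.{w} (B π) ≃+* (B π)).symm.toRingHom.FaithfullyFlat :=
    RingHom.FaithfullyFlat.of_bijective (ULift.ringEquiv : ULift.{w} (B π) ≃+* (B π)).symm.bijective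
  have h4 : ((ULift.ringEquiv : ULift.{w} A ≃+* A).toRingHom.comp (coact π).γ).FaithfullyFlat :=
    ff_comp h1 h2
  have h5 : (((ULift.ringEquiv : ULift.{w} A ≃+* A).toRingHom.comp (coact π).γ).comp
    (ULift.ringEquiv : ULift.{w} (B π) ≃+* (B π)).symm.toRingHom).FaithfullyFlat := ff_comp h3 h4
  rw [← RingHom.faithfullyFlat_algebraMap_iff]
  exact h5

/-- The Galois isomorphism. -/
noncomputable def canEquiv (hπ : Function.Surjective π) : A ⊗[B π] A ≃ₐ[A] A ⊗[k] H :=
  AlgEquiv.ofBijective (can π) (can_bijective π hπ)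

theorem finite (hπ : Function.Surjective π) : Module.Finite (B π) A := by
  have := faithfullyFlat π hπ
  have h1 : Module.Finite A (A ⊗[B π] A) := Module.Finite.equiv (canEquiv π hπ).symm.toLinearEquiv
  exact Module.Finite.of_finite_tensorProduct_of_faithfullyFlat A

theorem nonempty_basis [Module.Finite k A] (hπ : Function.Surjective π) :
    Nonempty (Module.Basis (Fin (Module.finrank k H)) (B π) A) := by
  have := faithfullyFlat π hπ
  have := finite π hπ
  have : Module.Finite k (B π) := Module.Finite.of_injective (B π).val.toLinearMap Subtype.val_injective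
  have : IsArtinianRing (B π) := IsArtinianRing.of_finite k (B π)
  have : Finite (MaximalSpectrum (B π)) := inferInstance
  exact RankFree.nonempty_basis (canEquiv π hπ).toLinearEquiv

theorem finrank_eq [Module.Finite k A] (hπ : Function.Surjective π) :
    Module.finrank k A = Module.finrank k (B π) * Module.finrank k H := by
  obtain ⟨b⟩ := nonempty_basis π hπ
  have h1 : Module.Free (B π) A := Module.Free.of_basis b
  have : Nontrivial (B π) := by
    refine ⟨0, 1, fun h => ?_⟩
    have := congrArg (Bialgebra.counitAlgHom k A) (congrArg Subtype.val h)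
    change Bialgebra.counitAlgHom k A 0 = Bialgebra.counitAlgHom k A 1 at this
    rw [map_zero, map_one] at this
    exact zero_ne_one this
  rw [← Module.finrank_mul_finrank k (B π) A]
  congr 1
  rw [Module.finrank_eq_card_basis b, Fintype.card_fin]

end Galois

end K503.QuotCoact
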