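import Groth.Agent.Hopf.K503.MuAlpha
import Groth.Agent.Hopf.K503.QuotCoact
import Groth.Agent.Hopf.K503.Points
import Mathlib.GroupTheory.SpecificGroups.Cyclic

/-!
# Finite group schemes of prime order over an algebraically closed field
-/

set_option autoImplicit false

open TensorProduct WithConv

namespace K503.PrimeOrder

universe u v w

variable {k : Type u} [Field k] [IsAlgClosed k] {A : Type v} [CommRing A] [HopfAlgebra k A]

/-- A reduced group algebra of prime dimension. -/
theorem of_isReduced [IsReduced A] (ℓ : ℕ) [hℓ : Fact ℓ.Prime] (hA : Module.finrank k A = ℓ) :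
    Nonempty (A ≃ₐc[k] ConstGrp.F k (Multiplicative (ZMod ℓ))) := by
  have : Module.Finite k A := Module.finite_of_finrank_pos (by rw [hA]; exact hℓ.out.pos)
  have : NeZero ℓ := ⟨hℓ.out.ne_zero⟩
  let Γ := WithConv (A →ₐ[k] k)
  have h1 : Nat.card Γ = ℓ := by rw [Points.card_points, hA]
  have h2 : Nat.card (Multiplicative (ZMod ℓ)) = ℓ := by
    rw [Nat.card_eq_fintype_card, Fintype.card_multiplicative, ZMod.card]
  let e : Multiplicative (ZMod ℓ) ≃* Γ := mulEquivOfPrimeCardEq h2 h1
  exact ⟨BialgEquiv.ofBijective (Points.evHom e.toMonoidHom) (Points.evHom_bijective _ e.bijective)⟩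

/-- A surjection onto an algebra of prime dimension `p` from one of prime dimension `ℓ`. -/
theorem bijective_of_surjective {B : Type w} [CommRing B] [HopfAlgebra k B] (ℓ p : ℕ) [hℓ : Fact ℓ.Prime]
    [hp : Fact p.Prime] (hA : Module.finrank k A = ℓ) (hB : Module.finrank k B = p) (f : A →ₐc[k] B)
    (hf : Function.Surjective f) : ℓ = p ∧ Function.Bijective f := by
  have : Module.Finite k A := Module.finite_of_finrank_pos (by rw [hA]; exact hℓ.out.pos)
  have : Module.Finite k B := Module.finite_of_finrank_pos (by rw [hB]; exact hp.out.pos)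
  have h1 := QuotCoact.finrank_eq f hf
  rw [hA, hB] at h1
  have h2 : p ∣ ℓ := ⟨_, by rw [h1, mul_comm]⟩
  have h3 : p = ℓ := (Nat.prime_dvd_prime_iff_eq hp.out hℓ.out).1 h2
  refine ⟨h3.symm, ?_⟩
  have h4 : Module.finrank k A = Module.finrank k B := by rw [hA, hB, h3]
  exact ⟨(LinearMap.injective_iff_surjective_of_finrank_eq_finrank (f := (f : A →ₗ[k] B)) h4).2 hf, hf⟩

variable (p : ℕ) [hp : Fact p.Prime] [CharP k p]

theorem main (ℓ : ℕ) [hℓ : Fact ℓ.Prime] (hA : Module.finrank k A = ℓ) :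
    (ℓ ≠ p → Nonempty (A ≃ₐc[k] ConstGrp.F k (Multiplicative (ZMod ℓ)))) ∧
      (ℓ = p → Nonempty (A ≃ₐc[k] ConstGrp.F k (Multiplicative (ZMod p))) ∨
        Nonempty (A ≃ₐc[k] MonoidAlgebra k (Multiplicative (ZMod p))) ∨
        Nonempty (A ≃ₐc[k] AlphaP.A p k)) := by
  have : Module.Finite k A := Module.finite_of_finrank_pos (by rw [hA]; exact hℓ.out.pos)
  by_cases hred : IsReduced A
  · refine ⟨fun _ => of_isReduced ℓ hA, fun h => Or.inl ?_⟩
    subst h
    exact of_isReduced ℓ hA
  · rcases MuAlpha.exists_surjective (k := k) p hred with ⟨f, hf⟩ | ⟨f, hf⟩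
    · have := bijective_of_surjective ℓ p hA (MuAlpha.finrank_mu p k) f hf
      exact ⟨fun h => absurd this.1 h, fun _ => Or.inr (Or.inl ⟨BialgEquiv.ofBijective f this.2⟩)⟩
    · have := bijective_of_surjective ℓ p hA (AlphaP.finrank_eq p k) f hf
      exact ⟨fun h => absurd this.1 h, fun _ => Or.inr (Or.inr ⟨BialgEquiv.ofBijective f this.2⟩)⟩

end K503.PrimeOrder
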